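import Groth.Agent.H28Def.Glue
import Groth.Prelude.Def_ArtFun2
import Mathlib

/-!
# Homogeneity of the deformation functor of a scheme
-/

set_option autoImplicit false
set_option linter.style.haveILetI false
universe u
open CategoryTheory CategoryTheory.Limits AlgebraicGeometry IsLocalRing ArtFun ArtFun.Art

namespace Groth.Agent.H28Def

variable {Λ k : Type u} [CommRing Λ] [Field k] [Algebra Λ k] {X : Scheme.{u}} {x : X ⟶ specPt k}

/-- Every scheme over a field is flat. -/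
theorem flat_of_field (f : X ⟶ Spec (CommRingCat.of k)) : Flat f := by
  refine HasRingHomProperty.of_iSup_eq_top (P := @AlgebraicGeometry.Flat) (fun U : X.affineOpens => U)
    (iSup_affineOpens_eq_top X) fun U => ?_
  have h : (H24Def.scalar f U.1).Flat := by
    letI := (H24Def.scalar f U.1).toAlgebra
    exact RingHom.flat_algebraMap_iff.mpr inferInstance
  have e : (f.appLE ⊤ U.1 le_top).hom =
      (H24Def.scalar f U.1).comp (Scheme.ΓSpecIso (CommRingCat.of k)).hom.hom := by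
    show _ = ((Scheme.ΓSpecIso (CommRingCat.of k)).hom ≫
      (Scheme.ΓSpecIso (CommRingCat.of k)).inv ≫ f.appLE ⊤ U.1 le_top).hom
    rw [Iso.hom_inv_id_assoc]
  rw [e]
  exact RingHom.Flat.comp (RingHom.Flat.of_bijective
    (ConcreteCategory.bijective_of_isIso (Scheme.ΓSpecIso (CommRingCat.of k)).hom)) h

variable (X x) in
/-- The deformation over the base. -/
@[reducible] noncomputable def trivBase : DefSch X x (base Λ k) where
  total := X
  f := x
  flat := flat_of_field x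
  i := 𝟙 X
  isPullback := IsPullback.of_horiz_isIso ⟨(Category.id_comp _).trans (comp_specRes_base x).symm⟩

/-- All deformations over the base are isomorphic. -/
theorem nonempty_iso_trivBase (ξ : DefSch X x (base Λ k)) : Nonempty (DefSch.Iso (trivBase X x) ξ) := by
  haveI : IsIso ξ.i := ξ.isPullback.isIso_fst_of_isIso
  exact ⟨⟨asIso ξ.i, by rw [asIso_hom, ξ.i_f, comp_specRes_base], Category.id_comp _⟩⟩

theorem h0_defFunctor : H0 (defFunctor (Λ := Λ) X x) := by
  refine ⟨⟨(trivBase X x).cl⟩, ⟨fun a b => ?_⟩⟩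
  obtain ⟨a, rfl⟩ := Quotient.exists_rep a
  obtain ⟨b, rfl⟩ := Quotient.exists_rep b
  obtain ⟨e⟩ := nonempty_iso_trivBase a
  obtain ⟨e'⟩ := nonempty_iso_trivBase b
  exact Quotient.sound ⟨e.symm.trans e'⟩

theorem isPullback_i_base {A : Art Λ k} (ξ : DefSch X x A) :
    IsPullback ξ.i (trivBase (Λ := Λ) X x).f ξ.f (specMap (toBase A)) := by
  have e : specMap (toBase A) = specRes A := by
    rw [← specRes_comp (toBase A)]
    show _ = Spec.map (CommRingCat.ofHom (RingHom.id k)) ≫ _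
    rw [CommRingCat.ofHom_id, Spec.map_id]
    exact (Category.id_comp _).symm
  rw [e]
  exact ξ.isPullback

variable {B A A' A'' : Art Λ k} {p' : B ⟶ A'} {p'' : B ⟶ A''} {f' : A' ⟶ A} {f'' : A'' ⟶ A}

/-- Isomorphic restrictions give a common deformation with cartesian maps. -/
theorem exists_common (ξ' : DefSch X x A') (ξ'' : DefSch X x A'')
    (θ : DefSch.Iso (ξ'.baseChange f') (ξ''.baseChange f'')) :
    ∃ j : (ξ''.baseChange f'').total ⟶ ξ'.total,
      IsPullback j (ξ''.baseChange f'').f ξ'.f (specMap f') ∧ (ξ''.baseChange f'').i ≫ j = ξ'.i ∧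
      j = θ.iso.inv ≫ pullback.fst ξ'.f (specMap f') := by
  refine ⟨θ.iso.inv ≫ pullback.fst ξ'.f (specMap f'), ?_, ?_, rfl⟩
  · refine (IsPullback.of_hasPullback ξ'.f (specMap f')).of_iso θ.iso (Iso.refl _) (Iso.refl _) (Iso.refl _)
      ?_ ?_ (by simp) (by simp)
    · rw [Iso.refl_hom, Category.comp_id, Iso.hom_inv_id_assoc]
    · rw [Iso.refl_hom, Category.comp_id]
      exact θ.hom_f.symm
  · rw [← θ.i_hom, Category.assoc, Iso.hom_inv_id_assoc]
    exact DefSch.baseChange_i_fst ξ' f'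

theorem surjective_cmp (h : IsFibreProd p' p'' f' f'') (hs : Function.Surjective f'') :
    Function.Surjective (cmp (defFunctor (Λ := Λ) X x) h) := by
  rintro ⟨⟨y', y''⟩, hy⟩
  obtain ⟨ξ', rfl⟩ := Quotient.exists_rep y'
  obtain ⟨ξ'', rfl⟩ := Quotient.exists_rep y''
  obtain ⟨θ⟩ := Quotient.exact hy
  obtain ⟨j, hj, hij, -⟩ := exists_common ξ' ξ'' θ
  obtain ⟨η, a, b, -, ha, hb, hai, hbi⟩ := exists_glue h hs (ξ''.baseChange f'') ξ' ξ''
    (pullback.fst ξ''.f (specMap f'')) j (IsPullback.of_hasPullback _ _) hj (DefSch.baseChange_i_fst _ _) hij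
  exact ⟨η.cl, FibProd.ext (Quotient.sound ⟨isoOfIsPullback η ξ' a ha hai⟩)
    (Quotient.sound ⟨isoOfIsPullback η ξ'' b hb hbi⟩)⟩

/-- The glued deformation maps isomorphically to any deformation receiving compatible maps. -/
theorem nonempty_iso_of_glued (h : IsFibreProd p' p'' f' f'') {T : Scheme.{u}} {ξ' : DefSch X x A'}
    {ξ'' : DefSch X x A''} {i : T ⟶ ξ''.total} {j : T ⟶ ξ'.total} {η₀ : DefSch X x B} {a : ξ'.total ⟶ η₀.total}
    {b : ξ''.total ⟶ η₀.total} (hpo : IsPushout i j b a) (hi : ξ'.i ≫ a = η₀.i)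
    (ha : a ≫ η₀.f = ξ'.f ≫ specMap p') (hb : b ≫ η₀.f = ξ''.f ≫ specMap p'')
    (η : DefSch X x B) (a' : ξ'.total ⟶ η.total) (b' : ξ''.total ⟶ η.total) (w : i ≫ b' = j ≫ a')
    (ha' : a' ≫ η.f = ξ'.f ≫ specMap p') (hb' : b' ≫ η.f = ξ''.f ≫ specMap p'') (hi' : ξ'.i ≫ a' = η.i) :
    Nonempty (DefSch.Iso η₀ η) := by
  let c := hpo.desc b' a' w
  have hf : c ≫ η.f = η₀.f := hpo.hom_ext (by rw [hpo.inl_desc_assoc, hb', hb]) (by rw [hpo.inr_desc_assoc, ha', ha])
  have hci : η₀.i ≫ c = η.i := by rw [← hi, Category.assoc, hpo.inr_desc, hi']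
  haveI := isIso_of_def_hom c hf hci
  exact ⟨⟨asIso c, hf, hci⟩⟩

/-- Maps into a deformation from an isomorphism of a base change with its own. -/
theorem exists_into {η η₂ : DefSch X x B} {g : B ⟶ A} (e : DefSch.Iso (η.baseChange g) (η₂.baseChange g)) :
    ∃ a : (η.baseChange g).total ⟶ η₂.total, a ≫ η₂.f = (η.baseChange g).f ≫ specMap g ∧
      (η.baseChange g).i ≫ a = η₂.i := by
  refine ⟨e.iso.hom ≫ pullback.fst η₂.f (specMap g), ?_, ?_⟩
  · rw [Category.assoc, pullback.condition, ← Category.assoc]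
    exact congrArg (· ≫ specMap g) e.hom_f
  · rw [← Category.assoc, e.i_hom]
    exact DefSch.baseChange_i_fst _ _

theorem injective_cmp_base {p' : B ⟶ A'} {p'' : B ⟶ A''} (h : IsFibreProd p' p'' (toBase A') (toBase A'')) :
    Function.Injective (cmp (defFunctor (Λ := Λ) X x) h) := by
  intro y₁ y₂ hy
  obtain ⟨η₁, rfl⟩ := Quotient.exists_rep y₁
  obtain ⟨η₂, rfl⟩ := Quotient.exists_rep y₂
  obtain ⟨e'⟩ := Quotient.exact (congrArg (fun z => z.1.1) hy)
  obtain ⟨e''⟩ := Quotient.exact (congrArg (fun z => z.1.2) hy)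
  let ξ' := η₁.baseChange p'
  let ξ'' := η₁.baseChange p''
  obtain ⟨η₀, a, b, hpo, ha, hb, hai, -⟩ := exists_glue h (fun c => ⟨_, (A''.res_surjective c).choose_spec⟩) (trivBase X x) ξ' ξ''
    ξ''.i ξ'.i (isPullback_i_base ξ'') (isPullback_i_base ξ') (Category.id_comp _) (Category.id_comp _)
  obtain ⟨a₂, ha₂, hai₂⟩ := exists_into e'
  obtain ⟨b₂, hb₂, hbi₂⟩ := exists_into e''
  obtain ⟨u₁⟩ := nonempty_iso_of_glued h hpo hai ha.w hb.w η₁ (pullback.fst _ _) (pullback.fst _ _)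
    (by rw [DefSch.baseChange_i_fst, DefSch.baseChange_i_fst]) pullback.condition pullback.condition
    (DefSch.baseChange_i_fst _ _)
  obtain ⟨u₂⟩ := nonempty_iso_of_glued h hpo hai ha.w hb.w η₂ a₂ b₂ (hbi₂.trans hai₂.symm) ha₂ hb₂ hai₂
  exact Quotient.sound ⟨u₁.symm.trans u₂⟩

theorem s1_defFunctor : S1 (defFunctor (Λ := Λ) X x) :=
  fun _ _ _ _ _ _ _ _ h hs => surjective_cmp h hs

theorem heps_defFunctor : Heps (defFunctor (Λ := Λ) X x) :=
  fun _ _ _ _ h => ⟨injective_cmp_base h, surjective_cmp h fun c => ⟨_, ((dual Λ k).res_surjective c).choose_spec⟩⟩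

end Groth.Agent.H28Def
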