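import Groth.Agent.H28Def.TangentHom
import Groth.Agent.H24Art.Prorep
import Mathlib

/-!
# Hulls of deformation functors of affine schemes
-/

set_option autoImplicit false
set_option linter.style.haveILetI false
universe u v
open CategoryTheory CategoryTheory.Limits AlgebraicGeometry ArtFun ArtFun.Art

namespace Groth.Agent.H28Def

variable {Λ k : Type u} [CommRing Λ] [Field k] [Algebra Λ k]

/-- A hull transfers along a natural bijection. -/
theorem hasHull_of_equiv {F G : Art Λ k ⥤ Type v} (η : ∀ A, G.obj A ≃ F.obj A)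
    (hη : ∀ {A B : Art Λ k} (g : A ⟶ B) (q : G.obj A), η B (G.map g q) = F.map g (η A q)) (h : HasHull G) :
    HasHull F := by
  obtain ⟨⟨R, ξ, hv, hb⟩⟩ := h
  refine ⟨⟨R, ⟨fun A φ => η A (ξ.app A φ), fun {A B} g φ => by rw [ξ.natural, hη]⟩, ?_, (η _).bijective.comp hb⟩⟩
  intro B A μ hμ φ y hy
  obtain ⟨ψ, h1, h2⟩ := hv μ hμ φ ((η B).symm y) ((η A).injective (by
    rw [hη, Equiv.apply_symm_apply]; exact hy))
  exact ⟨ψ, h1, by show η B (ξ.app B ψ) = y; rw [h2, Equiv.apply_symm_apply]⟩

variable {X X' : Scheme.{u}} {x : X ⟶ specPt k} {x' : X' ⟶ specPt k}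

/-- A deformation seen as one of an isomorphic scheme. -/
@[reducible] noncomputable def transDef (e : X' ≅ X) (he : e.hom ≫ x = x') {A : Art Λ k} (ξ : DefSch X x A) :
    DefSch X' x' A where
  total := ξ.total
  f := ξ.f
  flat := ξ.flat
  i := e.hom ≫ ξ.i
  isPullback := by
    have h := (IsPullback.of_horiz_isIso (fst := e.hom) (snd := x') (f := x) (g := 𝟙 (specPt k))
      ⟨by rw [he, Category.comp_id]⟩).paste_horiz ξ.isPullback
    rwa [Category.id_comp] at h

theorem transDef_iso (e : X' ≅ X) (he : e.hom ≫ x = x') {A : Art Λ k} {ξ ξ' : DefSch X x A}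
    (h : Nonempty (DefSch.Iso ξ ξ')) : Nonempty (DefSch.Iso (transDef e he ξ) (transDef e he ξ')) :=
  let ⟨u⟩ := h
  ⟨⟨u.iso, u.hom_f, by show (e.hom ≫ ξ.i) ≫ u.iso.hom = e.hom ≫ ξ'.i; rw [Category.assoc, u.i_hom]⟩⟩

/-- Deformation classes of isomorphic schemes correspond. -/
noncomputable def transEquiv (e : X' ≅ X) (he : e.hom ≫ x = x') (A : Art Λ k) :
    (defFunctor (Λ := Λ) X x).obj A ≃ (defFunctor (Λ := Λ) X' x').obj A where
  toFun := Quotient.map' (transDef e he) fun _ _ h => transDef_iso e he h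
  invFun := Quotient.map' (transDef e.symm (by rw [← he]; simp)) fun _ _ h => transDef_iso e.symm _ h
  left_inv q := by
    induction q using Quotient.inductionOn with
    | h ξ => exact Quotient.sound ⟨⟨Iso.refl _, Category.id_comp _, (Category.comp_id _).trans (by
        show e.inv ≫ e.hom ≫ ξ.i = ξ.i
        rw [Iso.inv_hom_id_assoc])⟩⟩
  right_inv q := by
    induction q using Quotient.inductionOn with
    | h ξ => exact Quotient.sound ⟨⟨Iso.refl _, Category.id_comp _, (Category.comp_id _).trans (by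
        show e.hom ≫ e.inv ≫ ξ.i = ξ.i
        rw [Iso.hom_inv_id_assoc])⟩⟩

theorem transEquiv_natural (e : X' ≅ X) (he : e.hom ≫ x = x') {A B : Art Λ k} (g : A ⟶ B)
    (q : (defFunctor (Λ := Λ) X x).obj A) :
    transEquiv e he B ((defFunctor (Λ := Λ) X x).map g q) = (defFunctor (Λ := Λ) X' x').map g (transEquiv e he A q) := by
  induction q using Quotient.inductionOn with
  | h ξ =>
    refine Quotient.sound ⟨⟨Iso.refl _, Category.id_comp _, (Category.comp_id _).trans ?_⟩⟩
    refine pullback.hom_ext ?_ ?_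
    · show (e.hom ≫ (ξ.baseChange g).i) ≫ pullback.fst ξ.f (specMap g) = _
      rw [Category.assoc, DefSch.baseChange_i_fst]
      exact (DefSch.baseChange_i_fst (transDef e he ξ) g).symm
    · show (e.hom ≫ (ξ.baseChange g).i) ≫ pullback.snd ξ.f (specMap g) = _
      rw [Category.assoc]
      refine ((congrArg (e.hom ≫ ·) (DefSch.baseChange_i_f ξ g)).trans ?_).trans
        (DefSch.baseChange_i_f (transDef e he ξ) g).symm
      rw [← Category.assoc, he]

set_option maxHeartbeats 1000000 in
/-- An affine scheme of finite type with finitely many non-smooth points has a hull. -/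
theorem hasHull_affine [IsNoetherianRing Λ] (hk : Function.Surjective (algebraMap Λ k))
    {B₀ : Type u} [CommRing B₀] [Algebra k B₀] [Algebra.FiniteType k B₀] (Z : Set (PrimeSpectrum B₀)) (hZ : Z.Finite)
    (hsm : ∀ p, p ∉ Z → ∃ g, g ∉ p.asIdeal ∧ Algebra.FormallySmooth k (Localization.Away g)) :
    HasHull (defFunctor (Λ := Λ) (Spec (CommRingCat.of B₀)) (H24Def.affPt k B₀)) := by
  haveI : Module.Finite Λ k := Module.Finite.of_surjective (Algebra.linearMap Λ k) hk
  obtain ⟨n, f₀, hf₀⟩ := Algebra.FiniteType.iff_quotient_mvPolynomial''.1 (inferInstance : Algebra.FiniteType k B₀)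
  let F := defFunctor (Λ := Λ) (Spec (CommRingCat.of B₀)) (H24Def.affPt k B₀)
  obtain ⟨T⟩ := H24Art.nonempty_tangentStr (F := F) h0_defFunctor heps_defFunctor
  exact H24Art.hasHull_of_conditions h0_defFunctor s1_defFunctor heps_defFunctor (hfin_affine hf₀ Z hZ hsm)
    (H24Art.hc_of_subsingleton (H24Art.subsingleton_derivation_of_surjective hk))

end Groth.Agent.H28Def
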