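import Groth.Agent.H28Def.LocalCI
import Groth.Agent.H24Def.Affine
import Mathlib

/-!
# Lifting affine deformations of local complete intersections along small extensions
-/

set_option autoImplicit false
set_option linter.style.haveILetI false
universe u
open CategoryTheory CategoryTheory.Limits AlgebraicGeometry IsLocalRing ArtFun ArtFun.Art
open scoped TensorProduct

namespace Groth.Agent.H28Def

/-- If `M` is flat and `N ∩ J M ⊆ J N`, then `J ⊗ M/N → M/N` is injective. -/
lemma lTensor_quotient_injective {R M : Type u} [CommRing R] [AddCommGroup M] [Module R M] [Module.Flat R M]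
    (N : Submodule R M) (J : Ideal R) (h : N ⊓ J • ⊤ ≤ J • N) :
    Function.Injective (J.subtype.lTensor (M ⧸ N)) := by
  let T : M ⊗[R] J →ₗ[R] M := (TensorProduct.rid R M).toLinearMap ∘ₗ J.subtype.lTensor M
  have hT : Function.Injective T :=
    (TensorProduct.rid R M).injective.comp
      (Module.Flat.lTensor_preserves_injective_linearMap J.subtype J.subtype_injective)
  have hTt : ∀ (m : M) (j : J), T (m ⊗ₜ j) = (j : R) • m := fun m j => by simp [T]
  have hTmem : ∀ w, T w ∈ J • (⊤ : Submodule R M) := fun w => by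
    induction w using TensorProduct.induction_on with
    | zero => simp
    | tmul m j => rw [hTt]; exact Submodule.smul_mem_smul j.2 Submodule.mem_top
    | add a b ha hb => rw [map_add]; exact add_mem ha hb
  have hmk : ∀ w, N.mkQ (T w) = TensorProduct.rid R (M ⧸ N) (J.subtype.lTensor _ (N.mkQ.rTensor J w)) := fun w => by
    induction w using TensorProduct.induction_on with
    | zero => simp
    | tmul m j => simp [hTt]
    | add a b ha hb => simp only [map_add, ha, hb]
  have himg : ∀ x ∈ J • N, ∃ w' : N ⊗[R] J, T (N.subtype.rTensor J w') = x := by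
    intro x hx
    induction hx using Submodule.smul_induction_on' with
    | smul r hr n hn => exact ⟨⟨n, hn⟩ ⊗ₜ ⟨r, hr⟩, by rw [LinearMap.rTensor_tmul, hTt]; rfl⟩
    | add x _ y _ hx hy =>
      obtain ⟨a, rfl⟩ := hx
      obtain ⟨b, rfl⟩ := hy
      exact ⟨a + b, by rw [map_add, map_add]⟩
  rw [injective_iff_map_eq_zero]
  intro z hz
  obtain ⟨w, rfl⟩ := LinearMap.rTensor_surjective J N.mkQ_surjective z
  have hN : T w ∈ N := by
    rw [← Submodule.ker_mkQ N, LinearMap.mem_ker, hmk, hz, map_zero]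
  obtain ⟨w', hw'⟩ := himg _ (h ⟨hN, hTmem w⟩)
  rw [← hT hw', ← LinearMap.rTensor_comp_apply, LinearMap.exact_subtype_mkQ N |>.linearMap_comp_eq_zero,
    LinearMap.rTensor_zero, LinearMap.zero_apply]

/-- The ideal form of `lTensor_quotient_injective`. -/
lemma lTensor_quotient_ideal_injective {R S : Type u} [CommRing R] [CommRing S] [Algebra R S] [Module.Flat R S]
    (I : Ideal S) (J : Ideal R)
    (h : ∀ x ∈ I, x ∈ J.map (algebraMap R S) → x ∈ J.map (algebraMap R S) * I) :
    Function.Injective (J.subtype.lTensor (S ⧸ I)) := by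
  let e : (S ⧸ I.restrictScalars R) ≃ₗ[R] S ⧸ I := Submodule.Quotient.restrictScalarsEquiv R I
  have hinj := lTensor_quotient_injective (I.restrictScalars R) J (by
    rintro x ⟨hx, hxJ⟩
    rw [SetLike.mem_coe, Ideal.smul_top_eq_map] at hxJ
    rw [← Ideal.smul_restrictScalars]
    exact h x hx hxJ)
  have hn : J.subtype.lTensor (S ⧸ I) ∘ₗ e.toLinearMap.rTensor J =
      e.toLinearMap.rTensor R ∘ₗ J.subtype.lTensor (S ⧸ I.restrictScalars R) := by
    ext m j; rfl
  intro a b hab
  obtain ⟨a, rfl⟩ := LinearMap.rTensor_surjective J (g := e.toLinearMap) e.surjective a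
  obtain ⟨b, rfl⟩ := LinearMap.rTensor_surjective J (g := e.toLinearMap) e.surjective b
  refine congrArg _ (hinj ((LinearEquiv.rTensor R e).injective ?_))
  exact (LinearMap.congr_fun hn a).symm.trans (hab.trans (LinearMap.congr_fun hn b))

/-- Flatness of a lift of a flat algebra along a surjection of Artinian local rings. -/
lemma flat_of_lift {A' A B' B : Type u} [CommRing A'] [IsLocalRing A'] [IsArtinianRing A'] [CommRing A]
    [CommRing B'] [CommRing B] [Algebra A' B'] [Algebra A B] [Module.Flat A B] (μ : A' →+* A)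
    (hμ : Function.Surjective μ) (hne : RingHom.ker μ ≠ ⊤) (φ : B' →+* B)
    (hφ : Function.Surjective φ) (hc : ∀ a, φ (algebraMap A' B' a) = algebraMap A B (μ a))
    (hk : RingHom.ker φ = (RingHom.ker μ).map (algebraMap A' B'))
    (hinj : Function.Injective ((RingHom.ker μ).subtype.lTensor B')) :
    Module.Flat A' B' := by
  set J := RingHom.ker μ with hJ
  letI : Algebra A' B := ((algebraMap A B).comp μ).toAlgebra
  letI : Algebra (A' ⧸ J) A := (RingHom.kerLift μ).toAlgebra
  letI : Algebra (A' ⧸ J) B := ((algebraMap A B).comp (algebraMap (A' ⧸ J) A)).toAlgebra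
  haveI : IsScalarTower (A' ⧸ J) A B := IsScalarTower.of_algebraMap_eq fun _ => rfl
  haveI : IsScalarTower A' (A' ⧸ J) B := IsScalarTower.of_algebraMap_eq fun _ => rfl
  haveI : Module.Flat (A' ⧸ J) A := Module.Flat.of_linearEquiv
    (LinearEquiv.ofBijective (Algebra.linearMap (A' ⧸ J) A)
      ⟨RingHom.kerLift_injective μ, fun a => by
        obtain ⟨a', rfl⟩ := hμ a
        exact ⟨Ideal.Quotient.mk J a', rfl⟩⟩).symm
  haveI : Module.Flat (A' ⧸ J) B := Module.Flat.trans (A' ⧸ J) A B
  let φl : B' →ₗ[A'] B :=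
    { toFun := φ
      map_add' := map_add φ
      map_smul' := fun a b => by
        rw [RingHom.id_apply, Algebra.smul_def a b, map_mul, hc, Algebra.smul_def]; rfl }
  have hkl : (J • ⊤ : Submodule A' B') = LinearMap.ker φl := by
    ext b
    rw [Ideal.smul_top_eq_map, Submodule.restrictScalars_mem, ← hk]
    rfl
  let e₀ : ((A' ⧸ J) ⊗[A'] B') ≃ₗ[A'] B :=
    (TensorProduct.quotTensorEquivQuotSMul B' J).trans
      ((Submodule.quotEquivOfEq _ _ hkl).trans (φl.quotKerEquivOfSurjective hφ))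
  haveI : Module.Flat (A' ⧸ J) ((A' ⧸ J) ⊗[A'] B') :=
    Module.Flat.of_linearEquiv (e₀.extendScalarsOfSurjective Ideal.Quotient.mk_surjective)
  exact flat_of_lTensor J hne hinj

/-- A surjection of algebras over a surjection of rings with the expected kernel is a pushout. -/
lemma isPushout_of_surjective {A' A B' B : Type u} [CommRing A'] [CommRing A] [CommRing B'] [CommRing B]
    [Algebra A' B'] [Algebra A B] (μ : A' →+* A) (hμ : Function.Surjective μ) (φ : B' →+* B)
    (hφ : Function.Surjective φ) (hc : ∀ a, φ (algebraMap A' B' a) = algebraMap A B (μ a))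
    (hk : RingHom.ker φ ≤ (RingHom.ker μ).map (algebraMap A' B')) :
    IsPushout (CommRingCat.ofHom (algebraMap A' B')) (CommRingCat.ofHom μ)
      (CommRingCat.ofHom φ) (CommRingCat.ofHom (algebraMap A B)) := by
  have w : CommRingCat.ofHom (algebraMap A' B') ≫ CommRingCat.ofHom φ =
      CommRingCat.ofHom μ ≫ CommRingCat.ofHom (algebraMap A B) :=
    CommRingCat.hom_ext (RingHom.ext hc)
  have hker : ∀ s : PushoutCocone (CommRingCat.ofHom (algebraMap A' B')) (CommRingCat.ofHom μ),
      RingHom.ker φ ≤ RingHom.ker s.inl.hom := fun s => by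
    refine hk.trans (Ideal.map_le_iff_le_comap.2 fun a ha => ?_)
    have h1 : s.inl.hom (algebraMap A' B' a) = s.inr.hom (μ a) := ConcreteCategory.congr_hom s.condition a
    rw [Ideal.mem_comap, RingHom.mem_ker, h1, RingHom.mem_ker.1 ha, map_zero]
  refine ⟨⟨w⟩, ⟨PushoutCocone.IsColimit.mk w
    (fun s => CommRingCat.ofHom (RingHom.liftOfSurjective φ hφ ⟨s.inl.hom, hker s⟩))
    (fun s => CommRingCat.hom_ext (RingHom.ext fun b => H24Def.liftSurj_apply φ hφ s.inl.hom (hker s) b))
    (fun s => CommRingCat.hom_ext (RingHom.ext fun c => ?_))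
    (fun s m h1 _ => CommRingCat.hom_ext (RingHom.ext fun x => ?_))⟩⟩
  · obtain ⟨a, rfl⟩ := hμ c
    refine Eq.trans ?_ (ConcreteCategory.congr_hom s.condition a)
    change RingHom.liftOfSurjective φ hφ ⟨s.inl.hom, hker s⟩ (algebraMap A B (μ a)) = _
    rw [← hc]
    exact H24Def.liftSurj_apply φ hφ s.inl.hom (hker s) _
  · obtain ⟨b, rfl⟩ := hφ x
    refine Eq.trans (ConcreteCategory.congr_hom h1 b) ?_
    exact (H24Def.liftSurj_apply φ hφ s.inl.hom (hker s) b).symm

variable {Λ k : Type u} [CommRing Λ] [Field k] [Algebra Λ k] {B₀ : Type u} [CommRing B₀] [Algebra k B₀]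

/-- A compatible surjection of algebras exhibits one deformation as the base change of the other. -/
theorem baseChange_iso {A A' : Art Λ k} (μ : A' ⟶ A) (hμ : Function.Surjective μ) (D' : H24Def.AlgDef B₀ A')
    (D : H24Def.AlgDef B₀ A) (φ : D'.B →+* D.B) (hφ : Function.Surjective φ)
    (hc : ∀ a, φ (algebraMap A' D'.B a) = algebraMap A D.B (μ a)) (hπ : ∀ b, D.π (φ b) = D'.π b)
    (hk : RingHom.ker φ ≤ (RingHom.ker μ.toAlgHom.toRingHom).map (algebraMap A' D'.B)) :
    Nonempty (DefSch.Iso (D'.toSch.baseChange μ) D.toSch) := by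
  let i' : D.toSch.total ⟶ D'.toSch.total := Spec.map (CommRingCat.ofHom φ)
  have h : IsPullback i' D.toSch.f D'.toSch.f (specMap μ) :=
    isPullback_SpecMap_of_isPushout _ _ _ _ (isPushout_of_surjective μ.toAlgHom.toRingHom hμ φ hφ hc hk)
  refine ⟨⟨(IsPullback.of_hasPullback D'.toSch.f (specMap μ)).isoIsPullback _ _ h,
    IsPullback.isoIsPullback_hom_snd _ _ _ _, ?_⟩⟩
  refine h.hom_ext ?_ ?_
  · rw [Category.assoc, IsPullback.isoIsPullback_hom_fst]
    refine (DefSch.baseChange_i_fst _ μ).trans ?_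
    show Spec.map _ = Spec.map _ ≫ Spec.map _
    rw [← Spec.map_comp, ← CommRingCat.ofHom_comp]
    congr 2
    exact RingHom.ext fun b => (hπ b).symm
  · rw [Category.assoc, IsPullback.isoIsPullback_hom_snd]
    refine (DefSch.baseChange_i_f _ μ).trans ?_
    exact D.toSch.i_f.symm

set_option maxHeartbeats 1000000 in
/-- Deformations of a local complete intersection lift along extensions with kernel killed by the maximal ideal. -/
theorem exists_lift (hA : LCI.IsLCI k B₀) {A A' : Art Λ k} (μ : A' ⟶ A) (hμ : Function.Surjective μ)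
    (hm : maximalIdeal A' * RingHom.ker μ.toAlgHom.toRingHom = ⊥) (D : H24Def.AlgDef B₀ A) :
    ∃ (D' : H24Def.AlgDef B₀ A') (φ : D'.B →+* D.B), Function.Surjective φ ∧
      (∀ a, φ (algebraMap A' D'.B a) = algebraMap A D.B (μ a)) ∧ (∀ b, D.π (φ b) = D'.π b) ∧
      RingHom.ker φ ≤ (RingHom.ker μ.toAlgHom.toRingHom).map (algebraMap A' D'.B) := by
  obtain ⟨-, n, f₀, hf₀, hreg⟩ := hA
  haveI := D.flat
  set J : Ideal A' := RingHom.ker μ.toAlgHom.toRingHom with hJdef
  have hJm : J ≤ maximalIdeal A' := le_maximalIdeal (RingHom.ker_ne_top _)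
  have hJ2 : J * J = ⊥ := le_bot_iff.1 ((Ideal.mul_mono_left hJm).trans hm.le)
  let P := MvPolynomial (Fin n) A
  let P' := MvPolynomial (Fin n) A'
  choose y hy using fun i => D.π_surjective (f₀ (MvPolynomial.X i))
  let g : P →ₐ[A] D.B := MvPolynomial.aeval y
  let q : P →+* MvPolynomial (Fin n) k := MvPolynomial.map A.res.toRingHom
  have hq : Function.Surjective q := MvPolynomial.map_surjective _ A.res_surjective
  have hqk : RingHom.ker q = (maximalIdeal A).map (algebraMap A P) := by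
    rw [MvPolynomial.ker_map, MvPolynomial.algebraMap_eq]
    congr 1
    ext a
    rw [RingHom.mem_ker, A.mem_maximalIdeal_iff]
    rfl
  have hπg : ∀ p, D.π (g p) = f₀ (q p) := by
    refine fun p => RingHom.congr_fun (?_ : D.π.comp g.toRingHom = f₀.toRingHom.comp q) p
    refine MvPolynomial.ringHom_ext (fun a => ?_) fun i => ?_
    · show D.π (g (MvPolynomial.C a)) = f₀ (q (MvPolynomial.C a))
      rw [MvPolynomial.aeval_C, D.π_algebraMap, MvPolynomial.map_C, MvPolynomial.C_apply]
      exact (f₀.commutes _).symm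
    · show D.π (g (MvPolynomial.X i)) = f₀ (q (MvPolynomial.X i))
      rw [MvPolynomial.aeval_X, hy, MvPolynomial.map_X]
  have hgs : Function.Surjective g := by
    have hK : IsNilpotent ((maximalIdeal A).map (algebraMap A A)) := by
      rw [Algebra.algebraMap_self, Ideal.map_id]
      exact (isArtinianRing_iff_isNilpotent_maximalIdeal A).1 inferInstance
    have h := H24Def.le_of_le_sup_smul (A := A) (M := D.B) hK (N := ⊤) (P := LinearMap.range g.toLinearMap) (by
      intro b _
      obtain ⟨p₀, hp₀⟩ := hf₀ (D.π b)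
      obtain ⟨p, rfl⟩ := hq p₀
      have hb : b - g p ∈ RingHom.ker D.π := by rw [RingHom.mem_ker, map_sub, hπg, hp₀, sub_self]
      rw [D.ker_π, ← Submodule.restrictScalars_mem A, ← Ideal.smul_top_eq_map] at hb
      refine Submodule.mem_sup.2 ⟨g p, ⟨p, rfl⟩, b - g p, ?_, add_sub_cancel _ _⟩
      rwa [Algebra.algebraMap_self, Ideal.map_id])
    exact fun b => h Submodule.mem_top
  set I : Ideal P := RingHom.ker g.toRingHom with hIdef
  haveI : Module.Flat A (P ⧸ I) := Module.Flat.of_linearEquiv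
    (Ideal.quotientKerAlgEquivOfSurjective (f := g) hgs).toLinearEquiv
  have hI₀ : I.map q = RingHom.ker f₀.toRingHom := by
    refine le_antisymm (Ideal.map_le_iff_le_comap.2 fun p hp => ?_) fun p₀ hp₀ => ?_
    · show f₀ (q p) = 0
      rw [← hπg, show g p = 0 from hp, map_zero]
    · obtain ⟨p, rfl⟩ := hq p₀
      have h1 : g p ∈ ((maximalIdeal A).map (algebraMap A P)).map g.toRingHom := by
        rw [Ideal.map_map, show g.toRingHom.comp (algebraMap A P) = algebraMap A D.B from g.comp_algebraMap, ← D.ker_π,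
          RingHom.mem_ker, hπg]
        exact hp₀
      obtain ⟨z, hz, hzp⟩ := (Ideal.mem_map_iff_of_surjective g.toRingHom hgs).1 h1
      rw [← hqk, RingHom.mem_ker] at hz
      have hpz : p - z ∈ I := by
        show g.toRingHom (p - z) = 0
        rw [map_sub, hzp]; exact sub_self _
      simpa [hz] using Ideal.mem_map_of_mem q hpz
  let Θ : P' →+* P := MvPolynomial.map μ.toAlgHom.toRingHom
  have hΘ : Function.Surjective Θ := MvPolynomial.map_surjective _ hμ
  set JP : Ideal P' := J.map (algebraMap A' P') with hJPdef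
  have hΘk : RingHom.ker Θ = JP := by
    rw [MvPolynomial.ker_map, hJPdef, MvPolynomial.algebraMap_eq]
  have hJP2 : JP * JP = ⊥ := by rw [hJPdef, ← Ideal.map_mul, hJ2, Ideal.map_bot]
  let Q : Ideal P' := I.comap Θ
  have hJPQ : JP ≤ Q := fun x hx => by
    rw [← hΘk, RingHom.mem_ker] at hx
    show Θ x ∈ I
    rw [hx]; exact zero_mem I
  let E := Q ⧸ (JP • ⊤ : Submodule P' Q)
  let mk : Q →ₗ[P'] E := Submodule.mkQ _
  have hmk0 : ∀ x : Q, mk x = 0 ↔ (x : P') ∈ JP * Q := fun x => by
    rw [show mk x = 0 ↔ x ∈ (JP • ⊤ : Submodule P' Q) from Submodule.Quotient.mk_eq_zero _, Submodule.mem_smul_top_iff,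
      smul_eq_mul]
  have hann : ∀ c ∈ JP, ∀ e : E, c • e = 0 := fun c hc e => by
    obtain ⟨x, rfl⟩ := Submodule.mkQ_surjective _ e
    show c • mk x = 0
    rw [← map_smul, hmk0]
    exact Ideal.mul_mem_mul hc x.2
  let sec := Function.surjInv hΘ
  letI : SMul P E := ⟨fun c e => sec c • e⟩
  have hsmul : ∀ (c : P') (e : E), Θ c • e = c • e := fun c e => by
    show sec (Θ c) • e = c • e
    rw [← sub_eq_zero, ← sub_smul]
    refine hann _ ?_ e
    rw [← hΘk, RingHom.mem_ker, map_sub, Function.surjInv_eq hΘ, sub_self]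
  letI : Module P E := Function.Surjective.moduleLeft Θ hΘ hsmul
  let ρ₀ : Q →ₛₗ[Θ] I :=
    { toFun := fun x => ⟨Θ x, x.2⟩
      map_add' := fun x y => Subtype.ext (map_add Θ x.1 y.1)
      map_smul' := fun c x => Subtype.ext (map_mul Θ c x.1) }
  let ρ' : E →ₛₗ[Θ] I := Submodule.liftQ _ ρ₀ (fun x hx => by
    rw [Submodule.mem_smul_top_iff, smul_eq_mul] at hx
    refine LinearMap.mem_ker.2 (Subtype.ext ?_)
    show Θ x = 0
    rw [← RingHom.mem_ker, hΘk]
    exact Ideal.mul_le_left hx)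
  have hρmk : ∀ x : Q, (ρ' (mk x) : P) = Θ x := fun x => rfl
  let ρ : E →ₗ[P] I :=
    { toFun := ρ'
      map_add' := map_add ρ'
      map_smul' := fun c e => by
        obtain ⟨c', rfl⟩ := hΘ c
        rw [hsmul, LinearMap.map_smulₛₗ]; rfl }
  have hρs : Function.Surjective ρ := by
    rintro ⟨i, hi⟩
    obtain ⟨x, rfl⟩ := hΘ i
    exact ⟨mk ⟨x, hi⟩, Subtype.ext rfl⟩
  have hsymm : ∀ x y : E, (ρ x : P) • y = (ρ y : P) • x := by
    intro x y
    obtain ⟨x, rfl⟩ := Submodule.mkQ_surjective _ x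
    obtain ⟨y, rfl⟩ := Submodule.mkQ_surjective _ y
    show Θ x.1 • mk y = Θ y.1 • mk x
    rw [hsmul, hsmul, ← map_smul, ← map_smul]
    exact congrArg mk (Subtype.ext (mul_comm _ _))
  obtain ⟨s, hs⟩ := exists_section I ρ hρs hsymm fun 𝔭 h𝔭 hI => by
    exact exists_local_equations (C := A) I q hq hqk (hI₀ ▸ hreg) 𝔭 hI
  have hρsec : ∀ i : I, (ρ (s i) : P) = i := fun i => congrArg Subtype.val (LinearMap.congr_fun hs i)
  let δ : Q →ₗ[P'] E :=
    { toFun := fun x => mk x - s (ρ₀ x)
      map_add' := fun x y => by simp only [map_add]; abel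
      map_smul' := fun c x => by
        rw [RingHom.id_apply, map_smul, LinearMap.map_smulₛₗ, map_smul, hsmul, smul_sub] }
  let I' : Ideal P' := (LinearMap.ker δ).map Q.subtype
  have hI'Q : I' ≤ Q := Submodule.map_subtype_le _ _
  have hI'mem : ∀ x : Q, (x : P') ∈ I' ↔ mk x = s (ρ₀ x) := fun x => by
    show (x : P') ∈ (LinearMap.ker δ).map Q.subtype ↔ _
    rw [Submodule.mem_map]
    exact ⟨fun ⟨z, hz, hzx⟩ => Subtype.ext (show (z : P') = x from hzx) ▸ sub_eq_zero.1 hz,
      fun h => ⟨x, sub_eq_zero.2 h, rfl⟩⟩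
  have hI'lift : ∀ p ∈ Q, ∃ a ∈ I', p - a ∈ JP := fun p hp => by
    obtain ⟨x, hx⟩ := Submodule.mkQ_surjective _ (s (ρ₀ ⟨p, hp⟩))
    have hΘx : Θ x = Θ p := (hρmk x).symm.trans ((congrArg (fun e => (ρ e : P)) hx).trans (hρsec _))
    refine ⟨x, (hI'mem x).2 (hx.trans (congrArg s (Subtype.ext hΘx.symm))), ?_⟩
    rw [← hΘk, RingHom.mem_ker, map_sub, hΘx, sub_self]
  have hI'JP : ∀ x ∈ I', x ∈ JP → x ∈ JP * I' := fun x hx hxJ => by
    have h1 : mk ⟨x, hI'Q hx⟩ = 0 := by
      rw [(hI'mem ⟨x, hI'Q hx⟩).1 hx, show ρ₀ ⟨x, hI'Q hx⟩ = 0 from Subtype.ext (by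
        show Θ x = 0
        rwa [← RingHom.mem_ker, hΘk]), map_zero]
    have hle : JP * Q ≤ JP * I' := Ideal.mul_le.2 fun j hj p hp => by
      obtain ⟨a, ha, hpa⟩ := hI'lift p hp
      have h0 : j * (p - a) ∈ JP * JP := Ideal.mul_mem_mul hj hpa
      rw [hJP2, Submodule.mem_bot, mul_sub, sub_eq_zero] at h0
      rw [h0]
      exact Ideal.mul_mem_mul hj ha
    exact hle ((hmk0 _).1 h1)
  let φ : P' ⧸ I' →+* D.B := Ideal.Quotient.lift I' (g.toRingHom.comp Θ) fun p hp => hI'Q hp
  have hφs : Function.Surjective φ := fun b => by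
    obtain ⟨p, rfl⟩ := hgs b
    obtain ⟨p', rfl⟩ := hΘ p
    exact ⟨Ideal.Quotient.mk I' p', rfl⟩
  have hφc : ∀ a, φ (algebraMap A' (P' ⧸ I') a) = algebraMap A D.B (μ a) := fun a => by
    show g (Θ (algebraMap A' P' a)) = _
    rw [MvPolynomial.algebraMap_eq, MvPolynomial.map_C, ← MvPolynomial.algebraMap_eq, AlgHom.commutes]
    rfl
  have hφk : RingHom.ker φ = J.map (algebraMap A' (P' ⧸ I')) := by
    rw [IsScalarTower.algebraMap_eq A' P' (P' ⧸ I'), ← Ideal.map_map, ← hJPdef, Ideal.Quotient.algebraMap_eq]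
    refine le_antisymm (fun x hx => ?_) (Ideal.map_le_iff_le_comap.2 fun p hp => ?_)
    · obtain ⟨p, rfl⟩ := Ideal.Quotient.mk_surjective x
      obtain ⟨a, ha, hpa⟩ := hI'lift p hx
      have := Ideal.mem_map_of_mem (Ideal.Quotient.mk I') hpa
      rwa [map_sub, Ideal.Quotient.eq_zero_iff_mem.2 ha, sub_zero] at this
    · show g (Θ p) = 0
      rw [show Θ p = 0 from by rwa [← RingHom.mem_ker, hΘk], map_zero]
  haveI : Module.Flat A' P' := inferInstance
  have hflat : Module.Flat A' (P' ⧸ I') :=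
    flat_of_lift μ.toAlgHom.toRingHom hμ (RingHom.ker_ne_top _) φ hφs hφc hφk
      (lTensor_quotient_ideal_injective I' J hI'JP)
  have hJsurj : Ideal.comap φ (Ideal.map φ ((maximalIdeal A').map (algebraMap A' (P' ⧸ I')))) =
      (maximalIdeal A').map (algebraMap A' (P' ⧸ I')) := by
    rw [Ideal.comap_map_of_surjective' φ hφs, hφk, sup_eq_left]
    exact Ideal.map_mono hJm
  refine ⟨⟨P' ⧸ I', hflat, D.π.comp φ, fun a => ?_, D.π_surjective.comp hφs, ?_⟩, φ, hφs, hφc, fun b => rfl, hφk.le⟩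
  · show D.π (φ _) = _
    rw [hφc, D.π_algebraMap, Art.res_app]
  · rw [← hJsurj, ← RingHom.comap_ker, D.ker_π]
    congr 1
    rw [Ideal.map_map, show φ.comp (algebraMap A' (P' ⧸ I')) = (algebraMap A D.B).comp μ.toAlgHom.toRingHom from RingHom.ext hφc,
      ← Ideal.map_map]
    congr 1
    refine le_antisymm (fun a ha => ?_) (Ideal.map_le_iff_le_comap.2 fun a ha => ?_)
    · obtain ⟨a', rfl⟩ := hμ a
      exact Ideal.mem_map_of_mem μ.toAlgHom.toRingHom ((A'.mem_maximalIdeal_iff a').2 (by rw [← Art.res_app μ a']; exact (A.mem_maximalIdeal_iff _).1 ha))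
    · rw [Ideal.mem_comap, Art.mem_maximalIdeal_iff]
      exact (Art.res_app μ a).trans ((A'.mem_maximalIdeal_iff a).1 ha)

end Groth.Agent.H28Def
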