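import Mathlib

/-!
# First order deformations of an algebra with isolated singularities
-/

set_option autoImplicit false
set_option linter.style.haveILetI false
universe u
open MvPolynomial

namespace Groth.Agent.H28Def

variable {k B₀ : Type u} [Field k] [CommRing B₀] [Algebra k B₀] {n : ℕ} (f₀ : MvPolynomial (Fin n) k →ₐ[k] B₀)

/-- The linear maps on the ideal of a presentation that are semilinear over the presentation. -/
def semiHom : Submodule k (RingHom.ker f₀.toRingHom →ₗ[k] B₀) where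
  carrier := {h | ∀ (p : MvPolynomial (Fin n) k) (f : RingHom.ker f₀.toRingHom), h (p • f) = f₀ p * h f}
  add_mem' ha hb p f := by rw [LinearMap.add_apply, ha, hb, LinearMap.add_apply, mul_add]
  zero_mem' p f := (mul_zero _).symm
  smul_mem' c h hh p f := by rw [LinearMap.smul_apply, hh, LinearMap.smul_apply, mul_smul_comm]

noncomputable instance semiHomAddCommGroup : AddCommGroup (semiHom f₀) := Submodule.addCommGroup _

/-- The linear maps induced by derivations of the polynomial ring. -/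
noncomputable def derHom : (Fin n → B₀) →ₗ[k] (RingHom.ker f₀.toRingHom →ₗ[k] B₀) where
  toFun d :=
    { toFun := fun f => ∑ i, f₀ (pderiv i f.1) * d i
      map_add' := fun a b => by
        rw [← Finset.sum_add_distrib]
        exact Finset.sum_congr rfl fun i _ => by rw [Submodule.coe_add, map_add, map_add, add_mul]
      map_smul' := fun c a => by
        rw [RingHom.id_apply, Finset.smul_sum]
        exact Finset.sum_congr rfl fun i _ => by rw [Submodule.coe_smul_of_tower, Derivation.map_smul, map_smul, smul_mul_assoc] }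
  map_add' d e := LinearMap.ext fun f => by
    show ∑ i, f₀ (pderiv i f.1) * (d i + e i) = ∑ i, f₀ (pderiv i f.1) * d i + ∑ i, f₀ (pderiv i f.1) * e i
    simp only [mul_add, Finset.sum_add_distrib]
  map_smul' c d := LinearMap.ext fun f => by
    show ∑ i, f₀ (pderiv i f.1) * (c • d i) = c • ∑ i, f₀ (pderiv i f.1) * d i
    simp only [mul_smul_comm, Finset.smul_sum]

/-- Semilinear maps kill the square of the ideal. -/
theorem semiHom_sq_eq_zero {h : RingHom.ker f₀.toRingHom →ₗ[k] B₀} (hh : h ∈ semiHom f₀)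
    {q : MvPolynomial (Fin n) k} (hq : q ∈ RingHom.ker f₀.toRingHom ^ 2) :
    ∀ hq' : q ∈ RingHom.ker f₀.toRingHom, h ⟨q, hq'⟩ = 0 := by
  rw [pow_two] at hq
  induction hq using Submodule.mul_induction_on' with
  | mem_mul_mem p hp r hr =>
    intro hq
    have := hh p ⟨r, hr⟩
    rw [show f₀ p = 0 from hp, zero_mul] at this
    exact this
  | add p hp r hr ihp ihr =>
    intro hq
    have hp' := (Ideal.mul_le_left (I := RingHom.ker f₀.toRingHom) (J := RingHom.ker f₀.toRingHom)) hp
    have hr' := (Ideal.mul_le_left (I := RingHom.ker f₀.toRingHom) (J := RingHom.ker f₀.toRingHom)) hr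
    exact (map_add h ⟨p, hp'⟩ ⟨r, hr'⟩).trans (by rw [ihp hp', ihr hr', add_zero])

set_option maxHeartbeats 1000000 in
/-- Values of semilinear maps on finitely many relations, at an element with smooth localization. -/
theorem exists_pow_mul_mem (hf₀ : Function.Surjective f₀) (g : B₀)
    [Algebra.FormallySmooth k (Localization.Away g)] {r : ℕ} (fs : Fin r → RingHom.ker f₀.toRingHom) :
    ∃ N : ℕ, ∀ h ∈ semiHom f₀, ∃ d : Fin n → B₀, ∀ j, g ^ N * h (fs j) = derHom f₀ d (fs j) := by
  classical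
  obtain ⟨gt, rfl⟩ := hf₀ g
  let I := RingHom.ker f₀.toRingHom
  let E := MvPolynomial (Fin n) k ⧸ I ^ 2
  let eg : E := Ideal.Quotient.mk (I ^ 2) gt
  let E' := Localization.Away eg
  let Bg := Localization.Away (f₀ gt)
  let ι : MvPolynomial (Fin n) k →ₐ[k] E' := (IsScalarTower.toAlgHom k E E').comp (Ideal.Quotient.mkₐ k (I ^ 2))
  let π₁ : E →ₐ[k] B₀ := Ideal.Quotient.liftₐ (I ^ 2) f₀ fun a ha => Ideal.pow_le_self two_ne_zero ha
  let π : E' →ₐ[k] Bg := IsLocalization.liftAlgHom (M := Submonoid.powers eg)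
    (f := (IsScalarTower.toAlgHom k B₀ Bg).comp π₁) (by
      rintro ⟨_, m, rfl⟩
      show IsUnit (algebraMap B₀ Bg (π₁ (eg ^ m)))
      rw [map_pow, map_pow]
      exact (IsLocalization.Away.algebraMap_isUnit (S := Bg) (f₀ gt)).pow m)
  have hπι : ∀ p, π (ι p) = algebraMap B₀ Bg (f₀ p) := fun p => by
    show π (algebraMap E E' (Ideal.Quotient.mk (I ^ 2) p)) = _
    rw [IsLocalization.liftAlgHom_apply, IsLocalization.lift_eq]
    rfl
  have hunit : IsUnit (algebraMap E E' eg) := IsLocalization.Away.algebraMap_isUnit eg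
  have hrep : ∀ z : E', ∃ (m : ℕ) (a : MvPolynomial (Fin n) k), z * ι gt ^ m = ι a := fun z => by
    obtain ⟨m, a, ha⟩ := IsLocalization.Away.surj eg z
    obtain ⟨a, rfl⟩ := Ideal.Quotient.mk_surjective a
    exact ⟨m, a, ha⟩
  have hπs : Function.Surjective π := fun w => by
    obtain ⟨m, b, hb⟩ := IsLocalization.Away.surj (f₀ gt) w
    obtain ⟨p, rfl⟩ := hf₀ b
    obtain ⟨u, hu⟩ := hunit.pow m
    refine ⟨ι p * ↑u⁻¹, ((IsLocalization.Away.algebraMap_isUnit (S := Bg) (f₀ gt)).pow m).mul_left_injective ?_⟩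
    show π _ * _ = w * _
    rw [hb, map_mul, hπι, mul_assoc]
    have : π (↑u⁻¹) * algebraMap B₀ Bg (f₀ gt) ^ m = 1 := by
      rw [← hπι gt, ← map_pow, ← map_mul, show ι gt ^ m = (u : E') from hu.symm, Units.inv_mul, map_one]
    rw [this, mul_one]
  have hker : ∀ z, π z = 0 → ∃ (m : ℕ) (a : I), z * ι gt ^ m = ι a := fun z hz => by
    obtain ⟨m, a, ha⟩ := hrep z
    have h0 : algebraMap B₀ Bg (f₀ a) = 0 := by rw [← hπι, ← ha, map_mul, hz, zero_mul]
    obtain ⟨⟨_, l, rfl⟩, hl⟩ := (IsLocalization.map_eq_zero_iff (Submonoid.powers (f₀ gt)) Bg _).1 h0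
    refine ⟨m + l, ⟨gt ^ l * a, ?_⟩, ?_⟩
    · show f₀ (gt ^ l * a) = 0
      rw [map_mul, map_pow]; exact hl
    · show z * ι gt ^ (m + l) = ι (gt ^ l * a)
      rw [map_mul, map_pow, ← ha, pow_add]; ring
  have hsq : ∀ z w, π z = 0 → π w = 0 → z * w = 0 := fun z w hz hw => by
    obtain ⟨m, a, ha⟩ := hker z hz
    obtain ⟨l, b, hb⟩ := hker w hw
    refine (((hunit.pow m).mul (hunit.pow l)).mul_left_injective ?_)
    show z * w * (ι gt ^ m * ι gt ^ l) = 0 * (ι gt ^ m * ι gt ^ l)
    rw [zero_mul, mul_mul_mul_comm, ha, hb, ← map_mul]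
    show algebraMap E E' (Ideal.Quotient.mk (I ^ 2) (a.1 * b.1)) = 0
    rw [Ideal.Quotient.eq_zero_iff_mem.2 (by rw [pow_two]; exact Ideal.mul_mem_mul a.2 b.2), map_zero]
  have hnil : IsNilpotent (RingHom.ker (π : E' →+* Bg)) := ⟨2, le_bot_iff.1 (by
    rw [pow_two (RingHom.ker (π : E' →+* Bg)), Ideal.mul_le]
    exact fun a ha b hb => Ideal.mem_bot.2 (hsq a b ha hb))⟩
  let s : Bg →ₐ[k] E' := Algebra.FormallySmooth.liftOfSurjective (AlgHom.id k Bg) π hπs hnil
  have hs : ∀ w, π (s w) = w := fun w =>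
    Algebra.FormallySmooth.liftOfSurjective_apply (AlgHom.id k Bg) π hπs hnil w
  let z : Fin n → E' := fun i => ι (X i) - s (algebraMap B₀ Bg (f₀ (X i)))
  have hz : ∀ i, π (z i) = 0 := fun i => by simp only [z, map_sub, hπι, hs, sub_self]
  have taylor : ∀ p, s (algebraMap B₀ Bg (f₀ p)) = ι p - ∑ i, ι (pderiv i p) * z i := fun p => by
    induction p using MvPolynomial.induction_on with
    | C c =>
      simp only [pderiv_C, map_zero, zero_mul, Finset.sum_const_zero, sub_zero]
      rw [← MvPolynomial.algebraMap_eq, f₀.commutes, ← IsScalarTower.algebraMap_apply, s.commutes, ι.commutes]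
    | add p q hp hq =>
      simp only [map_add, add_mul, Finset.sum_add_distrib, hp, hq]; ring
    | mul_X p j hp =>
      rw [map_mul, map_mul, map_mul, hp]
      have hsum : ∑ i, ι (pderiv i (p * X j)) * z i = (∑ i, ι (pderiv i p) * z i) * ι (X j) + ι p * z j := by
        simp only [Derivation.leibniz, smul_eq_mul, map_add, map_mul, add_mul, Finset.sum_add_distrib, pderiv_X]
        rw [Finset.sum_mul, add_comm]
        refine congrArg₂ (· + ·) (Finset.sum_congr rfl fun i _ => by ring) ?_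
        rw [Finset.sum_eq_single j (fun i _ hij => by simp [Pi.single_eq_of_ne hij.symm])
          (fun hj => absurd (Finset.mem_univ j) hj)]
        simp [Pi.single_eq_same]
      have h0 : (∑ i, ι (pderiv i p) * z i) * z j = 0 := by
        rw [Finset.sum_mul]
        exact Finset.sum_eq_zero fun i _ => by rw [mul_assoc, hsq _ _ (hz i) (hz j), mul_zero]
      rw [map_mul, hsum, show s (algebraMap B₀ Bg (f₀ (X j))) = ι (X j) - z j from (sub_sub_cancel _ _).symm]
      linear_combination h0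
  choose mz az haz using fun i => hker (z i) (hz i)
  let N := Finset.univ.sup mz
  let a : Fin n → I := fun i => (gt ^ (N - mz i)) • az i
  have ha : ∀ i, z i * ι gt ^ N = ι (a i) := fun i => by
    show _ = ι (gt ^ (N - mz i) * (az i).1)
    rw [map_mul, map_pow, ← haz]
    show z i * ι gt ^ N = ι gt ^ (N - mz i) * (z i * ι gt ^ mz i)
    conv_lhs => rw [show N = (N - mz i) + mz i from (Nat.sub_add_cancel (Finset.le_sup (f := mz) (Finset.mem_univ i))).symm, pow_add]
    ring
  have hK : ∀ j, ∃ K : ℕ, gt ^ K * (gt ^ N * (fs j).1 - ∑ i, pderiv i (fs j).1 * (a i).1) ∈ I ^ 2 := fun j => by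
    have h1 : ι (gt ^ N * (fs j).1 - ∑ i, pderiv i (fs j).1 * (a i).1) = 0 := by
      have := taylor (fs j).1
      rw [show f₀ (fs j).1 = 0 from (fs j).2, map_zero, map_zero, eq_comm, sub_eq_zero] at this
      rw [map_sub, map_mul, map_pow, this, map_sum, Finset.mul_sum, sub_eq_zero]
      exact Finset.sum_congr rfl fun i _ => by rw [map_mul, ← ha]; ring
    obtain ⟨⟨_, K, rfl⟩, hK⟩ := (IsLocalization.map_eq_zero_iff (Submonoid.powers eg) E' _).1 h1
    exact ⟨K, Ideal.Quotient.eq_zero_iff_mem.1 (by rw [map_mul, map_pow]; exact hK)⟩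
  choose K hKm using hK
  refine ⟨Finset.univ.sup K + N, fun h hh => ⟨fun i => f₀ (gt ^ Finset.univ.sup K) * h (a i), fun j => ?_⟩⟩
  obtain ⟨d, hd⟩ := Nat.le.dest (Finset.le_sup (f := K) (Finset.mem_univ j))
  let q : I := gt ^ Finset.univ.sup K • (gt ^ N • fs j - ∑ i, pderiv i (fs j).1 • a i)
  have hq : (q : MvPolynomial (Fin n) k) ∈ I ^ 2 := by
    show gt ^ Finset.univ.sup K * _ ∈ I ^ 2
    rw [← hd, pow_add, mul_comm (gt ^ K j), mul_assoc]
    refine Ideal.mul_mem_left _ _ ?_
    have e : ((gt ^ N • fs j - ∑ i, pderiv i (fs j).1 • a i : I) : MvPolynomial (Fin n) k) =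
        gt ^ N * (fs j).1 - ∑ i, pderiv i (fs j).1 * (a i).1 := by
      show ((gt ^ N • fs j : I) : MvPolynomial (Fin n) k) - ((∑ i, pderiv i (fs j).1 • a i : I) : MvPolynomial (Fin n) k) = _
      rw [AddSubmonoidClass.coe_finsetSum]
      rfl
    exact e ▸ hKm j
  have h2 : h q = 0 := semiHom_sq_eq_zero f₀ hh hq q.2
  have h3 : f₀ (gt ^ Finset.univ.sup K) * (f₀ (gt ^ N) * h (fs j) - ∑ i, f₀ (pderiv i (fs j).1) * h (a i)) = 0 := by
    rw [← h2, hh, map_sub, hh, map_sum]
    exact congrArg _ (congrArg _ (Finset.sum_congr rfl fun i _ => (hh _ _).symm))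
  rw [mul_sub, sub_eq_zero, map_pow, map_pow] at h3
  rw [pow_add, mul_assoc, h3, Finset.mul_sum]
  show _ = ∑ i, f₀ (pderiv i (fs j).1) * (f₀ (gt ^ Finset.univ.sup K) * h (a i))
  exact Finset.sum_congr rfl fun i _ => by rw [map_pow]; ring

end Groth.Agent.H28Def

namespace Groth.Agent.H28Def

/-- An algebra of finite type over a field with finitely many primes is finite. -/
theorem finite_of_finite_primeSpectrum (k : Type u) [Field k] (C : Type u) [CommRing C] [Algebra k C]
    [Algebra.FiniteType k C] [Finite (PrimeSpectrum C)] : Module.Finite k C := by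
  haveI : IsJacobsonRing C := isJacobsonRing_of_finiteType (A := k)
  haveI : IsNoetherianRing C := Algebra.FiniteType.isNoetherianRing k C
  haveI : Ring.KrullDimLE 0 C := Ring.krullDimLE_zero_iff.mpr fun P hP => by
    classical
    haveI := hP
    have h : P.jacobson = P := IsJacobsonRing.out' P hP.isRadical
    let S : Set (PrimeSpectrum C) := {q | q.asIdeal.IsMaximal ∧ P ≤ q.asIdeal}
    have hfin : S.Finite := Set.toFinite S
    have hle : hfin.toFinset.inf (fun q => q.asIdeal) ≤ P := by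
      intro x hx
      rw [← h, Ideal.jacobson, Submodule.mem_sInf]
      rintro M ⟨hPM, hM⟩
      exact (Finset.inf_le (f := fun q : PrimeSpectrum C => q.asIdeal) (b := ⟨M, hM.isPrime⟩)
        (hfin.mem_toFinset.2 ⟨hM, hPM⟩)) hx
    obtain ⟨q, hq, hqP⟩ := (Ideal.IsPrime.inf_le' hP).1 hle
    obtain ⟨hqm, hPq⟩ := hfin.mem_toFinset.1 hq
    exact le_antisymm hqP hPq ▸ hqm
  haveI : IsArtinianRing C := isArtinianRing_iff_krullDimLE_zero.mpr inferInstance
  exact Module.finite_iff_isArtinianRing k C |>.mpr inferInstance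

set_option maxHeartbeats 1000000 in
/-- Semilinear maps modulo derivations form a finite-dimensional space when the singular locus is finite. -/
theorem finite_semiHom_quotient {k B₀ : Type u} [Field k] [CommRing B₀] [Algebra k B₀] {n : ℕ}
    (f₀ : MvPolynomial (Fin n) k →ₐ[k] B₀) (hf₀ : Function.Surjective f₀) (Z : Set (PrimeSpectrum B₀)) (hZ : Z.Finite)
    (hsm : ∀ p, p ∉ Z → ∃ g, g ∉ p.asIdeal ∧ Algebra.FormallySmooth k (Localization.Away g)) :
    Module.Finite k (semiHom f₀ ⧸ (LinearMap.range (derHom f₀)).comap (semiHom f₀).subtype) := by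
  classical
  obtain ⟨r, fs, hfs⟩ : ∃ (r : ℕ) (fs : Fin r → RingHom.ker f₀.toRingHom),
      Submodule.span (MvPolynomial (Fin n) k) (Set.range fs) = ⊤ := by
    haveI : Module.Finite (MvPolynomial (Fin n) k) (RingHom.ker f₀.toRingHom) := Module.IsNoetherian.finite _ _
    exact Module.Finite.exists_fin
  let ev : semiHom f₀ →ₗ[k] (Fin r → B₀) :=
    { toFun := fun h j => h.1 (fs j)
      map_add' := fun _ _ => rfl
      map_smul' := fun _ _ => rfl }
  have hev : ∀ h₁ h₂ : RingHom.ker f₀.toRingHom →ₗ[k] B₀, h₁ ∈ semiHom f₀ → h₂ ∈ semiHom f₀ →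
      (∀ j, h₁ (fs j) = h₂ (fs j)) → h₁ = h₂ := fun h₁ h₂ m₁ m₂ e => by
    refine LinearMap.ext fun f => ?_
    have hf : f ∈ Submodule.span (MvPolynomial (Fin n) k) (Set.range fs) := by rw [hfs]; trivial
    induction hf using Submodule.span_induction with
    | mem f hf => obtain ⟨j, rfl⟩ := hf; exact e j
    | zero => rw [map_zero, map_zero]
    | add a b _ _ ha hb => rw [map_add, map_add, ha, hb]
    | smul p a _ ha => rw [m₁, m₂, ha]
  have hder : ∀ d, derHom f₀ d ∈ semiHom f₀ := fun d p f => by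
    show ∑ i, f₀ (MvPolynomial.pderiv i (p * f.1)) * d i = f₀ p * ∑ i, f₀ (MvPolynomial.pderiv i f.1) * d i
    rw [Finset.mul_sum]
    refine Finset.sum_congr rfl fun i _ => ?_
    rw [Derivation.leibniz, map_add, smul_eq_mul, smul_eq_mul, map_mul, map_mul, show f₀ f.1 = 0 from f.2]
    ring
  let Dm : (Fin n → B₀) →ₗ[B₀] (Fin r → B₀) :=
    { toFun := fun d j => derHom f₀ d (fs j)
      map_add' := fun d e => funext fun j => by rw [map_add]; rfl
      map_smul' := fun b d => funext fun j => by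
        show ∑ i, f₀ (MvPolynomial.pderiv i (fs j).1) * (b * d i) = b * ∑ i, f₀ (MvPolynomial.pderiv i (fs j).1) * d i
        rw [Finset.mul_sum]
        exact Finset.sum_congr rfl fun i _ => mul_left_comm _ _ _ }
  let M : Submodule B₀ (Fin r → B₀) := Submodule.span B₀ (Set.range ev)
  haveI : IsNoetherianRing B₀ := isNoetherianRing_of_surjective _ B₀ f₀.toRingHom hf₀
  let Q := M ⧸ (LinearMap.range Dm).comap M.subtype
  haveI : Module.Finite B₀ M := Module.IsNoetherian.finite _ _
  let 𝔞 : Ideal B₀ := Module.annihilator B₀ Q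
  have hann : ∀ p : PrimeSpectrum B₀, 𝔞 ≤ p.asIdeal → p ∈ Z := fun p hp => by
    by_contra hpZ
    obtain ⟨g, hg, hs⟩ := hsm p hpZ
    obtain ⟨N, hN⟩ := exists_pow_mul_mem f₀ hf₀ g fs
    refine hg (p.isPrime.mem_of_pow_mem N (hp (Module.mem_annihilator.2 fun q => ?_)))
    obtain ⟨⟨v, hv⟩, rfl⟩ := Submodule.mkQ_surjective _ q
    show Submodule.Quotient.mk (g ^ N • (⟨v, hv⟩ : M)) = 0
    rw [Submodule.Quotient.mk_eq_zero]
    show g ^ N • v ∈ LinearMap.range Dm
    refine Submodule.span_induction (p := fun v _ => g ^ N • v ∈ LinearMap.range Dm) ?_ ?_ ?_ ?_ hv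
    · rintro _ ⟨h, rfl⟩
      obtain ⟨d, hd⟩ := hN h.1 h.2
      exact ⟨d, funext fun j => (hd j).symm⟩
    · rw [smul_zero]; exact zero_mem _
    · intro a b _ _ ha hb; rw [smul_add]; exact add_mem ha hb
    · intro b a _ ha; rw [smul_comm]; exact Submodule.smul_mem _ _ ha
  haveI : Finite (PrimeSpectrum (B₀ ⧸ 𝔞)) := by
    haveI := hZ.to_subtype
    refine Finite.of_injective (fun q => (⟨PrimeSpectrum.comap (Ideal.Quotient.mk 𝔞) q, hann _ fun a ha => by
      show Ideal.Quotient.mk 𝔞 a ∈ q.asIdeal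
      rw [Ideal.Quotient.eq_zero_iff_mem.2 ha]; exact zero_mem _⟩ : Z)) fun q₁ q₂ e => ?_
    exact PrimeSpectrum.comap_injective_of_surjective _ Ideal.Quotient.mk_surjective (congrArg Subtype.val e)
  haveI : Algebra.FiniteType k B₀ := Algebra.FiniteType.of_surjective f₀ hf₀
  haveI : Algebra.FiniteType k (B₀ ⧸ 𝔞) :=
    Algebra.FiniteType.of_surjective (Ideal.Quotient.mkₐ k 𝔞) Ideal.Quotient.mk_surjective
  haveI := finite_of_finite_primeSpectrum k (B₀ ⧸ 𝔞)
  have htor : Module.IsTorsionBySet B₀ Q (𝔞 : Set B₀) := fun q a => Module.mem_annihilator.1 a.2 q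
  letI : Module (B₀ ⧸ 𝔞) Q := htor.module
  haveI : IsScalarTower B₀ (B₀ ⧸ 𝔞) Q := htor.isScalarTower
  haveI : IsScalarTower k (B₀ ⧸ 𝔞) Q := IsScalarTower.of_algebraMap_smul fun c q => by
    rw [IsScalarTower.algebraMap_apply k B₀ (B₀ ⧸ 𝔞), IsScalarTower.algebraMap_smul, IsScalarTower.algebraMap_smul]
  haveI : Module.Finite (B₀ ⧸ 𝔞) Q := Module.Finite.of_restrictScalars_finite B₀ (B₀ ⧸ 𝔞) Q
  haveI : Module.Finite k Q := Module.Finite.trans (B₀ ⧸ 𝔞) Q
  let Φ : semiHom f₀ →ₗ[k] Q :=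
    (Submodule.mkQ ((LinearMap.range Dm).comap M.subtype)).restrictScalars k ∘ₗ
      (ev.codRestrict (M.restrictScalars k) fun h => Submodule.subset_span ⟨h, rfl⟩)
  have hΦ : LinearMap.ker Φ = (LinearMap.range (derHom f₀)).comap (semiHom f₀).subtype := by
    ext h
    rw [LinearMap.mem_ker, Submodule.mem_comap]
    constructor
    · intro h0
      obtain ⟨d, hd⟩ := (Submodule.Quotient.mk_eq_zero _).1 h0
      exact ⟨d, hev _ _ (hder d) h.2 fun j => congrFun hd j⟩
    · rintro ⟨d, hd⟩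
      refine (Submodule.Quotient.mk_eq_zero _).2 ⟨d, funext fun j => ?_⟩
      exact congrArg (fun z : RingHom.ker f₀.toRingHom →ₗ[k] B₀ => z (fs j)) hd
  haveI : Module.Finite k (semiHom f₀ ⧸ LinearMap.ker Φ) := Module.Finite.equiv Φ.quotKerEquivRange.symm
  exact Module.Finite.equiv (Submodule.quotEquivOfEq _ _ hΦ)

end Groth.Agent.H28Def
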