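import Groth.Agent.H28Def.Push
import Groth.Agent.H28Def.SmoothT1
import Groth.Agent.H28Def.DefFunctor
import Groth.Agent.H24Art.Tangent
import Mathlib

/-!
# First order deformations and maps on the ideal of a presentation
-/

set_option autoImplicit false
set_option linter.style.haveILetI false
universe u
open CategoryTheory AlgebraicGeometry IsLocalRing ArtFun ArtFun.Art

namespace Groth.Agent.H28Def

variable (Λ k : Type u) [CommRing Λ] [Field k] [Algebra Λ k]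

/-- Constants in the dual numbers. -/
noncomputable def dC : k →+* (dual Λ k : Art Λ k) := TrivSqZeroExt.inlHom k k

/-- The generator of the dual numbers. -/
noncomputable def dE : (dual Λ k : Art Λ k) := (TrivSqZeroExt.inr 1 : DualNumber k)

variable {Λ k}

theorem dual_decomp (a : (dual Λ k : Art Λ k)) :
    a = dC Λ k (TrivSqZeroExt.fst a) + dC Λ k (TrivSqZeroExt.snd a) * dE Λ k := by
  have key : ∀ x : DualNumber k, x = TrivSqZeroExt.inl (TrivSqZeroExt.fst x) +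
      TrivSqZeroExt.inl (TrivSqZeroExt.snd x) * TrivSqZeroExt.inr 1 := fun x =>
    TrivSqZeroExt.ext (by simp) (by simp)
  exact key a

theorem res_dC (c : k) : (dual Λ k).res (dC Λ k c) = c := rfl

theorem res_dE : (dual Λ k).res (dE Λ k) = 0 := rfl

theorem mul_dE_eq_zero_iff (a : (dual Λ k : Art Λ k)) : a * dE Λ k = 0 ↔ a ∈ maximalIdeal (dual Λ k : Art Λ k) := by
  rw [Art.mem_maximalIdeal_iff]
  have key : ∀ x : DualNumber k, x * TrivSqZeroExt.inr 1 = 0 ↔ TrivSqZeroExt.fst x = 0 := fun x => by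
    refine ⟨fun h => by simpa using congrArg TrivSqZeroExt.snd h, fun h => TrivSqZeroExt.ext (by simp) (by simp [h])⟩
  exact key a

theorem dE_mul_dE : dE Λ k * dE Λ k = 0 := (mul_dE_eq_zero_iff _).2 ((Art.mem_maximalIdeal_iff _ _).2 res_dE)

variable {B₀ : Type u} [CommRing B₀] [Algebra k B₀] {n : ℕ} (f₀ : MvPolynomial (Fin n) k →ₐ[k] B₀)

/-- A deformation over the dual numbers with lifts of the coordinates realizing a linear map on the relations. -/
def Real (q : (defFunctor (Λ := Λ) (Spec (CommRingCat.of B₀)) (H24Def.affPt k B₀)).obj (dual Λ k))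
    (h : RingHom.ker f₀.toRingHom →ₗ[k] B₀) : Prop :=
  ∃ (D : H24Def.AlgDef B₀ (dual Λ k)) (g : MvPolynomial (Fin n) k →+* D.B), D.toSch.cl = q ∧
    (∀ c, g (MvPolynomial.C c) = algebraMap (dual Λ k : Art Λ k) D.B (dC Λ k c)) ∧ (∀ p, D.π (g p) = f₀ p) ∧
    ∀ f : RingHom.ker f₀.toRingHom, ∃ b, D.π b = h f ∧ g f.1 = algebraMap (dual Λ k : Art Λ k) D.B (dE Λ k) * b

variable {f₀}

theorem eq_of_dE_mul_eq (D : H24Def.AlgDef B₀ (dual Λ k)) {b b' : D.B}
    (h : algebraMap (dual Λ k : Art Λ k) D.B (dE Λ k) * b = algebraMap (dual Λ k : Art Λ k) D.B (dE Λ k) * b') :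
    D.π b = D.π b' := by
  rw [← sub_eq_zero, ← map_sub]
  exact π_eq_zero_of_mul_eq_zero D mul_dE_eq_zero_iff (by rw [mul_sub, h, sub_self])

theorem exists_dE_mul (D : H24Def.AlgDef B₀ (dual Λ k)) {b : D.B} (h : D.π b = 0) :
    ∃ c, b = algebraMap (dual Λ k : Art Λ k) D.B (dE Λ k) * c := by
  have hm : maximalIdeal (dual Λ k : Art Λ k) ≤ Ideal.span {dE Λ k} := fun a ha => by
    rw [dual_decomp a, show TrivSqZeroExt.fst a = 0 from (Art.mem_maximalIdeal_iff _ a).1 ha, map_zero, zero_add]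
    exact Ideal.mem_span_singleton'.2 ⟨_, rfl⟩
  have hb : b ∈ RingHom.ker D.π := h
  rw [D.ker_π] at hb
  have := Ideal.map_mono hm hb
  rw [Ideal.map_span, Set.image_singleton] at this
  obtain ⟨c, hc⟩ := Ideal.mem_span_singleton'.1 this
  exact ⟨c, hc.symm.trans (mul_comm _ _)⟩

theorem π_algebraMap_dC (D : H24Def.AlgDef B₀ (dual Λ k)) (c : k) :
    D.π (algebraMap (dual Λ k : Art Λ k) D.B (dC Λ k c)) = algebraMap k B₀ c := by
  rw [D.π_algebraMap, res_dC]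

/-- Every first order deformation realizes some semilinear map. -/
theorem exists_real (q : (defFunctor (Λ := Λ) (Spec (CommRingCat.of B₀)) (H24Def.affPt k B₀)).obj (dual Λ k)) :
    ∃ h ∈ semiHom f₀, Real f₀ q h := by
  obtain ⟨ξ, rfl⟩ := Quotient.exists_rep q
  obtain ⟨D, ⟨e⟩⟩ := H24Def.exists_toSch_iso ξ
  choose y hy using fun i => D.π_surjective (f₀ (MvPolynomial.X i))
  let g : MvPolynomial (Fin n) k →+* D.B :=
    MvPolynomial.eval₂Hom ((algebraMap (dual Λ k : Art Λ k) D.B).comp (dC Λ k)) y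
  have hgC : ∀ c, g (MvPolynomial.C c) = algebraMap (dual Λ k : Art Λ k) D.B (dC Λ k c) := fun c =>
    MvPolynomial.eval₂Hom_C _ _ c
  have hg : ∀ p, D.π (g p) = f₀ p := by
    refine fun p => RingHom.congr_fun (?_ : D.π.comp g = f₀.toRingHom) p
    refine MvPolynomial.ringHom_ext (fun c => ?_) fun i => ?_
    · show D.π (g _) = f₀ _
      rw [hgC, π_algebraMap_dC, ← MvPolynomial.algebraMap_eq, f₀.commutes]
    · show D.π (g _) = f₀ _
      rw [MvPolynomial.eval₂Hom_X', hy]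
  choose b hb using fun f : RingHom.ker f₀.toRingHom => exists_dE_mul D (b := g f.1) (by rw [hg]; exact f.2)
  have hadd : ∀ f f', D.π (b (f + f')) = D.π (b f + b f') := fun f f' => eq_of_dE_mul_eq D (by
    rw [← hb, mul_add, ← hb, ← hb, ← map_add]; rfl)
  have hsm : ∀ p f, D.π (b (p • f)) = D.π (g p * b f) := fun p f => eq_of_dE_mul_eq D (by
    rw [← hb, mul_left_comm, ← hb, ← map_mul]; rfl)
  let h : RingHom.ker f₀.toRingHom →ₗ[k] B₀ :=
    { toFun := fun f => D.π (b f)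
      map_add' := fun f f' => by rw [hadd, map_add]
      map_smul' := fun c f => by
        show D.π (b (c • f)) = c • D.π (b f)
        have hcf : c • f = MvPolynomial.C c • f := Subtype.ext (by rw [Submodule.coe_smul_of_tower, Submodule.coe_smul, smul_eq_mul]; exact MvPolynomial.smul_eq_C_mul f.1 c)
        rw [hcf, hsm, map_mul, hg, ← MvPolynomial.algebraMap_eq, f₀.commutes, Algebra.smul_def] }
  refine ⟨h, fun p f => ?_, D, g, Quotient.sound ⟨e.symm⟩, hgC, hg, fun f => ⟨b f, rfl, hb f⟩⟩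
  show D.π (b (p • f)) = f₀ p * D.π (b f)
  rw [hsm, map_mul, hg]

/-- The extension of the coordinates over the dual numbers. -/
noncomputable def extHom (D : H24Def.AlgDef B₀ (dual Λ k)) (g : MvPolynomial (Fin n) k →+* D.B) :
    MvPolynomial (Fin n) (dual Λ k : Art Λ k) →+* D.B :=
  MvPolynomial.eval₂Hom (algebraMap (dual Λ k : Art Λ k) D.B) fun i => g (MvPolynomial.X i)

theorem extHom_map (D : H24Def.AlgDef B₀ (dual Λ k)) (g : MvPolynomial (Fin n) k →+* D.B)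
    (hgC : ∀ c, g (MvPolynomial.C c) = algebraMap (dual Λ k : Art Λ k) D.B (dC Λ k c)) (p : MvPolynomial (Fin n) k) :
    extHom D g (MvPolynomial.map (dC Λ k) p) = g p := by
  refine RingHom.congr_fun (?_ : (extHom D g).comp (MvPolynomial.map (dC Λ k)) = g) p
  refine MvPolynomial.ringHom_ext (fun c => ?_) fun i => ?_
  · show extHom D g (MvPolynomial.map _ _) = _
    rw [MvPolynomial.map_C, extHom, MvPolynomial.eval₂Hom_C, hgC]
  · show extHom D g (MvPolynomial.map _ _) = _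
    rw [MvPolynomial.map_X, extHom, MvPolynomial.eval₂Hom_X']

theorem poly_decomp (u : MvPolynomial (Fin n) (dual Λ k : Art Λ k)) :
    ∃ p p' : MvPolynomial (Fin n) k,
      u = MvPolynomial.map (dC Λ k) p + MvPolynomial.C (dE Λ k) * MvPolynomial.map (dC Λ k) p' := by
  induction u using MvPolynomial.induction_on with
  | C a =>
    refine ⟨MvPolynomial.C (TrivSqZeroExt.fst a), MvPolynomial.C (TrivSqZeroExt.snd a), ?_⟩
    rw [MvPolynomial.map_C, MvPolynomial.map_C, ← MvPolynomial.C_mul, ← MvPolynomial.C_add, mul_comm]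
    exact congrArg MvPolynomial.C (dual_decomp a)
  | add u v hu hv =>
    obtain ⟨p, p', rfl⟩ := hu
    obtain ⟨r, r', rfl⟩ := hv
    exact ⟨p + r, p' + r', by rw [map_add, map_add]; ring⟩
  | mul_X u i hu =>
    obtain ⟨p, p', rfl⟩ := hu
    exact ⟨p * MvPolynomial.X i, p' * MvPolynomial.X i, by rw [map_mul, map_mul, MvPolynomial.map_X]; ring⟩

theorem extHom_surjective (hf₀ : Function.Surjective f₀) (D : H24Def.AlgDef B₀ (dual Λ k))
    (g : MvPolynomial (Fin n) k →+* D.B)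
    (hgC : ∀ c, g (MvPolynomial.C c) = algebraMap (dual Λ k : Art Λ k) D.B (dC Λ k c))
    (hg : ∀ p, D.π (g p) = f₀ p) : Function.Surjective (extHom D g) := by
  intro b
  obtain ⟨p, hp⟩ := hf₀ (D.π b)
  obtain ⟨c, hc⟩ := exists_dE_mul D (b := b - g p) (by rw [map_sub, hg, hp, sub_self])
  obtain ⟨p', hp'⟩ := hf₀ (D.π c)
  obtain ⟨c', hc'⟩ := exists_dE_mul D (b := c - g p') (by rw [map_sub, hg, hp', sub_self])
  refine ⟨MvPolynomial.map (dC Λ k) p + MvPolynomial.C (dE Λ k) * MvPolynomial.map (dC Λ k) p', ?_⟩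
  rw [map_add, map_mul, extHom_map D g hgC, extHom_map D g hgC, extHom, MvPolynomial.eval₂Hom_C]
  rw [sub_eq_iff_eq_add] at hc hc'
  rw [hc, hc', mul_add, ← mul_assoc, ← map_mul, dE_mul_dE, map_zero, zero_mul, zero_add, add_comm]

theorem extHom_eq_zero_iff (D : H24Def.AlgDef B₀ (dual Λ k)) (g : MvPolynomial (Fin n) k →+* D.B)
    (hgC : ∀ c, g (MvPolynomial.C c) = algebraMap (dual Λ k : Art Λ k) D.B (dC Λ k c))
    (hg : ∀ p, D.π (g p) = f₀ p) {h : RingHom.ker f₀.toRingHom →ₗ[k] B₀}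
    (hh : ∀ f : RingHom.ker f₀.toRingHom, ∃ b, D.π b = h f ∧ g f.1 = algebraMap (dual Λ k : Art Λ k) D.B (dE Λ k) * b)
    (p p' : MvPolynomial (Fin n) k) :
    extHom D g (MvPolynomial.map (dC Λ k) p + MvPolynomial.C (dE Λ k) * MvPolynomial.map (dC Λ k) p') = 0 ↔
      ∃ hp : f₀ p = 0, h ⟨p, hp⟩ + f₀ p' = 0 := by
  rw [map_add, map_mul, extHom_map D g hgC, extHom_map D g hgC, extHom, MvPolynomial.eval₂Hom_C]
  constructor
  · intro h0
    have hp : f₀ p = 0 := by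
      have := congrArg D.π h0
      rwa [map_add, map_mul, D.π_algebraMap, res_dE, map_zero, zero_mul, add_zero, hg, map_zero] at this
    obtain ⟨b, hb, hgb⟩ := hh ⟨p, hp⟩
    refine ⟨hp, ?_⟩
    rw [← hb, ← hg p', ← map_add]
    refine π_eq_zero_of_mul_eq_zero D mul_dE_eq_zero_iff ?_
    rw [mul_add, ← hgb]; exact h0
  · rintro ⟨hp, h0⟩
    obtain ⟨b, hb, hgb⟩ := hh ⟨p, hp⟩
    obtain ⟨c, hc⟩ := exists_dE_mul D (b := b + g p') (by rw [map_add, hb, hg, h0])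
    rw [show g p = g (⟨p, hp⟩ : RingHom.ker f₀.toRingHom).1 from rfl, hgb, ← mul_add, hc, ← mul_assoc, ← map_mul,
      dE_mul_dE, map_zero, zero_mul]

/-- The linear map determines the deformation. -/
theorem eq_of_real (hf₀ : Function.Surjective f₀)
    {q q' : (defFunctor (Λ := Λ) (Spec (CommRingCat.of B₀)) (H24Def.affPt k B₀)).obj (dual Λ k)}
    {h : RingHom.ker f₀.toRingHom →ₗ[k] B₀} (hq : Real f₀ q h) (hq' : Real f₀ q' h) : q = q' := by
  obtain ⟨D, g, rfl, hgC, hg, hh⟩ := hq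
  obtain ⟨D', g', rfl, hgC', hg', hh'⟩ := hq'
  have hker : RingHom.ker (extHom D g) = RingHom.ker (extHom D' g') := by
    ext u
    obtain ⟨p, p', rfl⟩ := poly_decomp u
    rw [RingHom.mem_ker, RingHom.mem_ker, extHom_eq_zero_iff D g hgC hg hh, extHom_eq_zero_iff D' g' hgC' hg' hh']
  let E := (RingHom.quotientKerEquivOfSurjective (extHom_surjective hf₀ D g hgC hg)).symm.trans
    ((Ideal.quotEquivOfEq hker).trans (RingHom.quotientKerEquivOfSurjective (extHom_surjective hf₀ D' g' hgC' hg')))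
  have hE : ∀ u, E (extHom D g u) = extHom D' g' u := fun u => by
    simp only [E, RingEquiv.trans_apply]
    rw [show extHom D g u = RingHom.quotientKerEquivOfSurjective (extHom_surjective hf₀ D g hgC hg)
      (Ideal.Quotient.mk _ u) from rfl, RingEquiv.symm_apply_apply]
    rfl
  have hcomm : ∀ a, E (algebraMap (dual Λ k : Art Λ k) D.B a) = algebraMap _ D'.B a := fun a => by
    have h1 := hE (MvPolynomial.C a)
    rwa [extHom, MvPolynomial.eval₂Hom_C, extHom, MvPolynomial.eval₂Hom_C] at h1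
  have hπ : ∀ u, D'.π (extHom D' g' u) = D.π (extHom D g u) := fun u => by
    obtain ⟨p, p', rfl⟩ := poly_decomp u
    simp only [map_add, map_mul, extHom_map D g hgC, extHom_map D' g' hgC', hg, hg']
    simp only [extHom, MvPolynomial.eval₂Hom_C, D.π_algebraMap, D'.π_algebraMap]
  obtain ⟨e⟩ := H24Def.AlgDef.toSch_iso (D := D) (D' := D') ⟨AlgEquiv.ofRingEquiv (f := E) hcomm, fun b => by
    obtain ⟨u, rfl⟩ := extHom_surjective hf₀ D g hgC hg b
    show D'.π (E _) = _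
    rw [hE, hπ]⟩
  exact Quotient.sound ⟨e⟩

/-- Scaling. -/
theorem real_scale {c : k} (hc : c ≠ 0)
    {q : (defFunctor (Λ := Λ) (Spec (CommRingCat.of B₀)) (H24Def.affPt k B₀)).obj (dual Λ k)}
    {h : RingHom.ker f₀.toRingHom →ₗ[k] B₀} (hq : Real f₀ q h) :
    Real f₀ ((defFunctor _ _).map (scale c) q) (c • h) := by
  obtain ⟨D, g, rfl, hgC, hg, hh⟩ := hq
  have key : ∀ x : DualNumber k,
      tszeMap (Λ := Λ) (c • LinearMap.id : k →ₗ[k] k) (tszeMap (Λ := Λ) (c⁻¹ • LinearMap.id : k →ₗ[k] k) x) = x :=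
    fun x => TrivSqZeroExt.ext rfl (by show c • c⁻¹ • TrivSqZeroExt.snd x = _; rw [smul_inv_smul₀ hc])
  have hs : Function.Surjective (scale c : dual Λ k ⟶ dual Λ k) := fun a => ⟨_, key a⟩
  obtain ⟨D₁, φ, hφ, hφc, hφπ, -, ⟨e⟩⟩ := exists_push (scale c) hs D
  refine ⟨D₁, φ.comp g, (Quotient.sound ⟨e.symm⟩ :
    (Quotient.mk _ D₁.toSch : (defFunctor (Λ := Λ) (Spec (CommRingCat.of B₀)) (H24Def.affPt k B₀)).obj (dual Λ k)) =
      Quotient.mk _ (D.toSch.baseChange (scale c))), fun a => ?_, fun p => (hφπ _).trans (hg p), fun f => ?_⟩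
  · rw [RingHom.comp_apply, hgC, hφc]
    congr 1
    exact TrivSqZeroExt.ext rfl (by show c • (0 : k) = 0; rw [smul_zero])
  · obtain ⟨b, hb, hgb⟩ := hh f
    refine ⟨algebraMap _ D₁.B (dC Λ k c) * φ b, by rw [map_mul, π_algebraMap_dC, hφπ, hb, LinearMap.smul_apply, Algebra.smul_def], ?_⟩
    rw [RingHom.comp_apply, hgb, map_mul, hφc, ← mul_assoc, ← map_mul]
    congr 2
    have key2 : tszeMap (Λ := Λ) (c • LinearMap.id : k →ₗ[k] k) (TrivSqZeroExt.inr 1 : DualNumber k) =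
        TrivSqZeroExt.inr 1 * TrivSqZeroExt.inl c :=
      TrivSqZeroExt.ext (by simp) (by show c • (1 : k) = _; simp)
    exact key2

/-- Adding a derivation of the coordinates. -/
theorem real_add_der {q : (defFunctor (Λ := Λ) (Spec (CommRingCat.of B₀)) (H24Def.affPt k B₀)).obj (dual Λ k)}
    {h : RingHom.ker f₀.toRingHom →ₗ[k] B₀} (hq : Real f₀ q h) (d : Fin n → B₀) :
    Real f₀ q (h + derHom f₀ d) := by
  obtain ⟨D, g, rfl, hgC, hg, hh⟩ := hq
  choose c hc using fun i => D.π_surjective (d i)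
  set ε := algebraMap (dual Λ k : Art Λ k) D.B (dE Λ k)
  have hεε : ε * ε = 0 := by rw [← map_mul, dE_mul_dE, map_zero]
  let g' : MvPolynomial (Fin n) k →+* D.B :=
    MvPolynomial.eval₂Hom ((algebraMap (dual Λ k : Art Λ k) D.B).comp (dC Λ k))
      fun i => g (MvPolynomial.X i) + ε * c i
  have hgC' : ∀ a, g' (MvPolynomial.C a) = algebraMap (dual Λ k : Art Λ k) D.B (dC Λ k a) := fun a =>
    MvPolynomial.eval₂Hom_C _ _ a
  have taylor : ∀ p, ∃ b, D.π b = ∑ i, f₀ (MvPolynomial.pderiv i p) * d i ∧ g' p = g p + ε * b := fun p => by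
    induction p using MvPolynomial.induction_on with
    | C a => exact ⟨0, by simp, by rw [hgC', hgC, mul_zero, add_zero]⟩
    | add p r hp hr =>
      obtain ⟨b, hb, hb'⟩ := hp
      obtain ⟨b', hb₂, hb₂'⟩ := hr
      exact ⟨b + b', by simp [hb, hb₂, add_mul, Finset.sum_add_distrib],
        by rw [map_add, map_add, hb', hb₂']; ring⟩
    | mul_X p j hp =>
      obtain ⟨b, hb, hb'⟩ := hp
      refine ⟨b * g (MvPolynomial.X j) + g p * c j, ?_, ?_⟩
      · rw [map_add, map_mul, map_mul, hg, hg, hb, hc, Finset.sum_mul]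
        simp only [Derivation.leibniz, smul_eq_mul, map_add, map_mul, add_mul, Finset.sum_add_distrib,
          MvPolynomial.pderiv_X]
        rw [add_comm]
        refine congrArg₂ (· + ·) ?_ (Finset.sum_congr rfl fun i _ => by ring)
        rw [Finset.sum_eq_single j (fun i _ hij => by simp [Pi.single_eq_of_ne hij.symm])
          (fun hj => absurd (Finset.mem_univ j) hj)]
        simp [Pi.single_eq_same]
      · rw [map_mul, map_mul, hb', MvPolynomial.eval₂Hom_X']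
        linear_combination (b * c j) * hεε
  refine ⟨D, g', rfl, hgC', fun p => ?_, fun f => ?_⟩
  · obtain ⟨b, -, hb⟩ := taylor p
    rw [hb, map_add, map_mul, D.π_algebraMap, res_dE, map_zero, zero_mul, add_zero, hg]
  · obtain ⟨b, hb, hb'⟩ := taylor f.1
    obtain ⟨b₂, hb₂, hb₂'⟩ := hh f
    exact ⟨b₂ + b, by rw [map_add, hb, hb₂]; rfl, by rw [hb', hb₂', mul_add]⟩

variable (Λ k) in
/-- The first generator of `k[ε₁, ε₂]`. -/
noncomputable def dE₁ : (dual2 Λ k : Art Λ k) := (TrivSqZeroExt.inr (1, 0) : TrivSqZeroExt k (k × k))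

variable (Λ k) in
/-- The second generator of `k[ε₁, ε₂]`. -/
noncomputable def dE₂ : (dual2 Λ k : Art Λ k) := (TrivSqZeroExt.inr (0, 1) : TrivSqZeroExt k (k × k))

variable (Λ k) in
/-- Constants in `k[ε₁, ε₂]`. -/
noncomputable def dC2 : k →+* (dual2 Λ k : Art Λ k) := TrivSqZeroExt.inlHom k (k × k)

theorem tsze_images :
    ((pr₁ (Λ := Λ) (k := k)) (dE₁ Λ k) = dE Λ k ∧ (pr₁ (Λ := Λ) (k := k)) (dE₂ Λ k) = 0) ∧
    ((pr₂ (Λ := Λ) (k := k)) (dE₁ Λ k) = 0 ∧ (pr₂ (Λ := Λ) (k := k)) (dE₂ Λ k) = dE Λ k) ∧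
    ((plus (Λ := Λ) (k := k)) (dE₁ Λ k) = dE Λ k ∧ (plus (Λ := Λ) (k := k)) (dE₂ Λ k) = dE Λ k) ∧
    ∀ c, (pr₁ (Λ := Λ) (k := k)) (dC2 Λ k c) = dC Λ k c ∧ (pr₂ (Λ := Λ) (k := k)) (dC2 Λ k c) = dC Λ k c ∧
      (plus (Λ := Λ) (k := k)) (dC2 Λ k c) = dC Λ k c := by
  refine ⟨⟨?_, ?_⟩, ⟨?_, ?_⟩, ⟨?_, ?_⟩, fun c => ⟨?_, ?_, ?_⟩⟩ <;> refine TrivSqZeroExt.ext rfl ?_
  · rfl
  · rfl
  · rfl
  · rfl
  · show (1 : k) + 0 = 1; rw [add_zero]
  · show (0 : k) + 1 = 1; rw [zero_add]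
  · rfl
  · rfl
  · show (0 : k) + 0 = 0; rw [add_zero]

theorem dual2_maximalIdeal_le : maximalIdeal (dual2 Λ k : Art Λ k) ≤ Ideal.span {dE₁ Λ k, dE₂ Λ k} := by
  intro a ha
  have key : ∀ x : TrivSqZeroExt k (k × k), TrivSqZeroExt.fst x = 0 →
      x = TrivSqZeroExt.inl x.snd.1 * TrivSqZeroExt.inr (1, 0) + TrivSqZeroExt.inl x.snd.2 * TrivSqZeroExt.inr (0, 1) :=
    fun x hx => TrivSqZeroExt.ext (by simp [hx]) (by simp)
  exact Ideal.mem_span_pair.2 ⟨_, _, (key a ((Art.mem_maximalIdeal_iff _ a).1 ha)).symm⟩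

theorem surjective_of_tszeMap {f : k × k →ₗ[k] k} (g : k →ₗ[k] k × k) (hg : ∀ x, f (g x) = x) (x : DualNumber k) :
    tszeMap (Λ := Λ) f (tszeMap (Λ := Λ) g x) = x :=
  TrivSqZeroExt.ext rfl (hg _)

theorem dual2_maps_surjective : Function.Surjective (pr₁ : dual2 Λ k ⟶ dual Λ k) ∧
    Function.Surjective (pr₂ : dual2 Λ k ⟶ dual Λ k) ∧ Function.Surjective (plus : dual2 Λ k ⟶ dual Λ k) :=
  ⟨fun a => ⟨_, surjective_of_tszeMap (LinearMap.inl k k k) (fun _ => rfl) a⟩,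
   fun a => ⟨_, surjective_of_tszeMap (LinearMap.inr k k k) (fun _ => rfl) a⟩,
   fun a => ⟨_, surjective_of_tszeMap (f := LinearMap.fst k k k + LinearMap.snd k k k) (LinearMap.inl k k k)
    (fun x => add_zero x) a⟩⟩

/-- The sum. -/
theorem real_plus {z : (defFunctor (Λ := Λ) (Spec (CommRingCat.of B₀)) (H24Def.affPt k B₀)).obj (dual2 Λ k)}
    {h₁ h₂ : RingHom.ker f₀.toRingHom →ₗ[k] B₀} (hq₁ : Real f₀ ((defFunctor _ _).map pr₁ z) h₁)
    (hq₂ : Real f₀ ((defFunctor _ _).map pr₂ z) h₂) : Real f₀ ((defFunctor _ _).map plus z) (h₁ + h₂) := by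
  obtain ⟨⟨t11, t12⟩, ⟨t21, t22⟩, ⟨t31, t32⟩, tC⟩ := (tsze_images (Λ := Λ) (k := k))
  obtain ⟨s₁, s₂, s₃⟩ := (dual2_maps_surjective (Λ := Λ) (k := k))
  obtain ⟨D₁, g₁, hD₁, hgC₁, hg₁, hh₁⟩ := hq₁
  obtain ⟨D₂, g₂, hD₂, hgC₂, hg₂, hh₂⟩ := hq₂
  obtain ⟨ξ, rfl⟩ := Quotient.exists_rep z
  obtain ⟨D, ⟨e⟩⟩ := H24Def.exists_toSch_iso ξ
  have he : (Quotient.mk _ ξ : (defFunctor (Λ := Λ) (Spec (CommRingCat.of B₀)) (H24Def.affPt k B₀)).obj (dual2 Λ k)) =
      D.toSch.cl := Quotient.sound ⟨e⟩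
  rw [he] at hD₁ hD₂ ⊢
  obtain ⟨φ₁, hφ₁, hc₁, hπ₁, -⟩ := exists_map_of_cl pr₁ s₁ D D₁ hD₁.symm
  obtain ⟨φ₂, hφ₂, hc₂, hπ₂, -⟩ := exists_map_of_cl pr₂ s₂ D D₂ hD₂.symm
  obtain ⟨D₃, φ₃, hφ₃, hc₃, hπ₃, -, ⟨e₃⟩⟩ := exists_push plus s₃ D
  have hlift : ∀ i, ∃ b, φ₁ b = g₁ (MvPolynomial.X i) ∧ φ₂ b = g₂ (MvPolynomial.X i) := fun i => by
    obtain ⟨b₀, hb₀⟩ := hφ₁ (g₁ (MvPolynomial.X i))
    obtain ⟨c', hc'⟩ := exists_dE_mul D₂ (b := φ₂ b₀ - g₂ (MvPolynomial.X i)) (by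
      rw [map_sub, hπ₂, ← hπ₁, hb₀, hg₁, hg₂, sub_self])
    obtain ⟨c, rfl⟩ := hφ₂ c'
    refine ⟨b₀ - algebraMap (dual2 Λ k : Art Λ k) D.B (dE₂ Λ k) * c, ?_, ?_⟩
    · rw [map_sub, map_mul, hc₁, t12, map_zero, zero_mul, sub_zero, hb₀]
    · rw [map_sub, map_mul, hc₂, t22, ← hc', sub_sub_cancel]
  choose y hy₁ hy₂ using hlift
  let g : MvPolynomial (Fin n) k →+* D.B :=
    MvPolynomial.eval₂Hom ((algebraMap (dual2 Λ k : Art Λ k) D.B).comp (dC2 Λ k)) y
  have hgC : ∀ c, g (MvPolynomial.C c) = algebraMap (dual2 Λ k : Art Λ k) D.B (dC2 Λ k c) := fun c =>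
    MvPolynomial.eval₂Hom_C _ _ c
  have hφg₁ : ∀ p, φ₁ (g p) = g₁ p := by
    refine fun p => RingHom.congr_fun (?_ : φ₁.comp g = g₁) p
    refine MvPolynomial.ringHom_ext (fun c => ?_) fun i => ?_
    · show φ₁ (g _) = _
      rw [hgC, hc₁, (tC c).1, hgC₁]
    · show φ₁ (g _) = _
      rw [MvPolynomial.eval₂Hom_X', hy₁]
  have hφg₂ : ∀ p, φ₂ (g p) = g₂ p := by
    refine fun p => RingHom.congr_fun (?_ : φ₂.comp g = g₂) p
    refine MvPolynomial.ringHom_ext (fun c => ?_) fun i => ?_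
    · show φ₂ (g _) = _
      rw [hgC, hc₂, (tC c).2.1, hgC₂]
    · show φ₂ (g _) = _
      rw [MvPolynomial.eval₂Hom_X', hy₂]
  refine ⟨D₃, φ₃.comp g, (Quotient.sound ⟨e₃.symm⟩ :
    (Quotient.mk _ D₃.toSch : (defFunctor (Λ := Λ) (Spec (CommRingCat.of B₀)) (H24Def.affPt k B₀)).obj (dual Λ k)) =
      Quotient.mk _ (D.toSch.baseChange plus)), fun c => ?_, fun p => ?_, fun f => ?_⟩
  · rw [RingHom.comp_apply, hgC, hc₃, (tC c).2.2]
  · rw [RingHom.comp_apply, hπ₃, ← hπ₁, hφg₁, hg₁]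
  · have hf : g f.1 ∈ RingHom.ker D.π := by
      rw [RingHom.mem_ker, ← hπ₁, hφg₁, hg₁]; exact f.2
    rw [D.ker_π] at hf
    have hf' := Ideal.map_mono dual2_maximalIdeal_le hf
    rw [Ideal.map_span, Set.image_pair, Ideal.mem_span_pair] at hf'
    obtain ⟨a₁, a₂, ha⟩ := hf'
    have h1 : D.π a₁ = h₁ f := by
      obtain ⟨b, hb, hgb⟩ := hh₁ f
      rw [← hb, ← hπ₁]
      refine eq_of_dE_mul_eq D₁ ?_
      rw [← hgb, ← hφg₁, ← ha, map_add, map_mul, map_mul, hc₁, hc₁, t11, t12, map_zero, mul_zero, add_zero, mul_comm]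
    have h2 : D.π a₂ = h₂ f := by
      obtain ⟨b, hb, hgb⟩ := hh₂ f
      rw [← hb, ← hπ₂]
      refine eq_of_dE_mul_eq D₂ ?_
      rw [← hgb, ← hφg₂, ← ha, map_add, map_mul, map_mul, hc₂, hc₂, t21, t22, map_zero, mul_zero, zero_add, mul_comm]
    refine ⟨φ₃ (a₁ + a₂), by rw [hπ₃, map_add, h1, h2]; rfl, ?_⟩
    rw [RingHom.comp_apply, ← ha, map_add, map_mul, map_mul, hc₃, hc₃, t31, t32, map_add]
    ring

set_option maxHeartbeats 1000000 in
/-- The tangent space of an affine scheme with finitely many singular points is finite-dimensional. -/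
theorem hfin_affine (hf₀ : Function.Surjective f₀) (Z : Set (PrimeSpectrum B₀)) (hZ : Z.Finite)
    (hsm : ∀ p, p ∉ Z → ∃ g, g ∉ p.asIdeal ∧ Algebra.FormallySmooth k (Localization.Away g))
    [TangentStr (defFunctor (Λ := Λ) (Spec (CommRingCat.of B₀)) (H24Def.affPt k B₀))] :
    Hfin (defFunctor (Λ := Λ) (Spec (CommRingCat.of B₀)) (H24Def.affPt k B₀)) := by
  let F := defFunctor (Λ := Λ) (Spec (CommRingCat.of B₀)) (H24Def.affPt k B₀)
  have h0 : H0 F := h0_defFunctor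
  have h2 : Heps F := heps_defFunctor
  let R : Set (TangentSpace F × semiHom f₀) := {qh | Real f₀ qh.1 qh.2.1}
  have hadd : ∀ {a b}, a ∈ R → b ∈ R → a + b ∈ R := fun {a b} ha hb => by
    obtain ⟨z, hz₁, hz₂⟩ := H24Art.exists_dual2 h0 h2 a.1 b.1
    have h := real_plus (z := z) (h₁ := a.2.1) (h₂ := b.2.1) (hz₁.symm ▸ ha) (hz₂.symm ▸ hb)
    have e : a.1 + b.1 = F.map plus z :=
      (congrArg₂ (fun u v : TangentSpace F => u + v) hz₁.symm hz₂.symm).trans (TangentStr.add_eq z)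
    show Real f₀ (a.1 + b.1) (a.2.1 + b.2.1)
    rw [e]; exact h
  have hsm' : ∀ (c : k), c ≠ 0 → ∀ {a}, a ∈ R → c • a ∈ R := fun c hc {a} ha => by
    have h := real_scale hc (q := a.1) (h := a.2.1) ha
    show Real f₀ (c • a.1) (c • a.2.1)
    rw [show c • a.1 = F.map (scale c) a.1 from TangentStr.smul_eq c a.1]
    exact h
  have hzero : (0 : TangentSpace F × semiHom f₀) ∈ R := by
    obtain ⟨ξ⟩ : Nonempty (TangentSpace F) := ⟨0⟩
    obtain ⟨h, hh, hr⟩ := exists_real (f₀ := f₀) ξ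
    have h1 : ((ξ, ⟨h, hh⟩) : TangentSpace F × semiHom f₀) ∈ R := hr
    have h2 := hadd h1 (hsm' (-1) (neg_ne_zero.2 one_ne_zero) h1)
    rwa [neg_smul, one_smul, add_neg_cancel] at h2
  let RS : Submodule k (TangentSpace F × semiHom f₀) :=
    { carrier := R
      add_mem' := hadd
      zero_mem' := hzero
      smul_mem' := fun c a ha => by
        rcases eq_or_ne c 0 with rfl | hc
        · rw [zero_smul]; exact hzero
        · exact hsm' c hc ha }
  haveI := finite_semiHom_quotient f₀ hf₀ Z hZ hsm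
  let N := (LinearMap.range (derHom f₀)).comap (semiHom f₀).subtype
  let Ψ : RS →ₗ[k] semiHom f₀ ⧸ N := N.mkQ ∘ₗ LinearMap.snd k _ _ ∘ₗ RS.subtype
  let Φ : RS →ₗ[k] TangentSpace F := LinearMap.fst k _ _ ∘ₗ RS.subtype
  have hΦ : Function.Surjective Φ := fun q => by
    obtain ⟨h, hh, hr⟩ := exists_real (f₀ := f₀) q
    exact ⟨⟨(q, ⟨h, hh⟩), hr⟩, rfl⟩
  have hker : LinearMap.ker Ψ ≤ LinearMap.ker Φ := fun a ha => by
    obtain ⟨d, hd⟩ := (Submodule.Quotient.mk_eq_zero _).1 (LinearMap.mem_ker.1 ha)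
    have h1 : Real f₀ (0 : TangentSpace F) (a.1.2.1) := by
      have := real_add_der (show Real f₀ (0 : TangentSpace F) (0 : RingHom.ker f₀.toRingHom →ₗ[k] B₀) from hzero) d
      rwa [zero_add, hd] at this
    exact LinearMap.mem_ker.2 (eq_of_real hf₀ (show Real f₀ a.1.1 a.1.2.1 from a.2) h1)
  haveI : Module.Finite k (RS ⧸ LinearMap.ker Ψ) := Module.Finite.equiv Ψ.quotKerEquivRange.symm
  refine Module.Finite.of_surjective ((LinearMap.ker Ψ).liftQ Φ hker) ?_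
  intro q
  obtain ⟨a, rfl⟩ := hΦ q
  exact ⟨Submodule.Quotient.mk a, rfl⟩

end Groth.Agent.H28Def
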