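import Groth.Agent.H28Def.Lift
import Groth.Agent.H24Def.Rigid
import Groth.Agent.H24Def.GlobalFibre
import Mathlib

/-!
# Restriction of affine deformations along surjections of base rings
-/

set_option autoImplicit false
set_option linter.style.haveILetI false
universe u
open CategoryTheory AlgebraicGeometry IsLocalRing ArtFun ArtFun.Art
open scoped TensorProduct

namespace Groth.Agent.H28Def

variable {Λ k : Type u} [CommRing Λ] [Field k] [Algebra Λ k] {B₀ : Type u} [CommRing B₀] [Algebra k B₀]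

/-- A base change of a flat algebra along a surjection, given by a quotient, is flat. -/
lemma flat_of_surjective {A' A B' B : Type u} [CommRing A'] [CommRing A] [CommRing B'] [CommRing B]
    [Algebra A' B'] [Algebra A B] [Module.Flat A' B'] (μ : A' →+* A) (hμ : Function.Surjective μ) (φ : B' →+* B)
    (hφ : Function.Surjective φ) (hc : ∀ a, φ (algebraMap A' B' a) = algebraMap A B (μ a))
    (hk : RingHom.ker φ = (RingHom.ker μ).map (algebraMap A' B')) : Module.Flat A B := by
  set J := RingHom.ker μ with hJ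
  letI : Algebra A' B := ((algebraMap A B).comp μ).toAlgebra
  letI : Algebra (A' ⧸ J) A := (RingHom.kerLift μ).toAlgebra
  letI : Algebra (A' ⧸ J) B := ((algebraMap A B).comp (algebraMap (A' ⧸ J) A)).toAlgebra
  haveI : IsScalarTower (A' ⧸ J) A B := IsScalarTower.of_algebraMap_eq fun _ => rfl
  haveI : IsScalarTower A' (A' ⧸ J) B := IsScalarTower.of_algebraMap_eq fun _ => rfl
  let φl : B' →ₗ[A'] B :=
    { toFun := φ
      map_add' := map_add φ
      map_smul' := fun a b => by
        rw [RingHom.id_apply, Algebra.smul_def a b, map_mul, hc, Algebra.smul_def]; rfl }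
  have hkl : (J • ⊤ : Submodule A' B') = LinearMap.ker φl := by
    ext b
    rw [Ideal.smul_top_eq_map, Submodule.restrictScalars_mem, ← hk]
    rfl
  let e₀ : ((A' ⧸ J) ⊗[A'] B') ≃ₗ[A'] B :=
    (TensorProduct.quotTensorEquivQuotSMul B' J).trans
      ((Submodule.quotEquivOfEq _ _ hkl).trans (φl.quotKerEquivOfSurjective hφ))
  haveI : Module.Flat (A' ⧸ J) B :=
    Module.Flat.of_linearEquiv (e₀.extendScalarsOfSurjective Ideal.Quotient.mk_surjective).symm
  have hb : Function.Bijective (algebraMap (A' ⧸ J) A) := ⟨RingHom.kerLift_injective μ, fun a => by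
    obtain ⟨a', rfl⟩ := hμ a
    exact ⟨Ideal.Quotient.mk J a', rfl⟩⟩
  let e : (A' ⧸ J) ≃+* A := RingEquiv.ofBijective _ hb
  letI : Algebra A (A' ⧸ J) := e.symm.toRingHom.toAlgebra
  haveI : IsScalarTower A (A' ⧸ J) B := IsScalarTower.of_algebraMap_eq fun a =>
    congrArg (algebraMap A B) (e.apply_symm_apply a).symm
  haveI : Module.Flat A (A' ⧸ J) := RingHom.flat_algebraMap_iff.mp (RingHom.Flat.of_bijective e.symm.bijective)
  exact Module.Flat.trans A (A' ⧸ J) B

variable {A A' : Art Λ k}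

/-- The base change of an algebraic deformation along a surjection, with its map. -/
theorem exists_push (μ : A' ⟶ A) (hμ : Function.Surjective μ) (D' : H24Def.AlgDef B₀ A') :
    ∃ (D : H24Def.AlgDef B₀ A) (φ : D'.B →+* D.B), Function.Surjective φ ∧
      (∀ a, φ (algebraMap A' D'.B a) = algebraMap A D.B (μ a)) ∧ (∀ b, D.π (φ b) = D'.π b) ∧
      RingHom.ker φ = (RingHom.ker μ.toAlgHom.toRingHom).map (algebraMap A' D'.B) ∧
      Nonempty (DefSch.Iso (D'.toSch.baseChange μ) D.toSch) := by
  haveI := D'.flat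
  set K := (RingHom.ker μ.toAlgHom.toRingHom).map (algebraMap A' D'.B) with hK
  let φ : D'.B →+* D'.B ⧸ K := Ideal.Quotient.mk K
  have hle : RingHom.ker μ.toAlgHom.toRingHom ≤ RingHom.ker (φ.comp (algebraMap A' D'.B)) := fun a ha => by
    rw [RingHom.mem_ker, RingHom.comp_apply, Ideal.Quotient.eq_zero_iff_mem]
    exact Ideal.mem_map_of_mem _ ha
  let α : A →+* D'.B ⧸ K := RingHom.liftOfSurjective μ.toAlgHom.toRingHom hμ ⟨φ.comp (algebraMap A' D'.B), hle⟩
  letI : Algebra A (D'.B ⧸ K) := α.toAlgebra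
  have hc : ∀ a, φ (algebraMap A' D'.B a) = algebraMap A (D'.B ⧸ K) (μ a) := fun a =>
    (H24Def.liftSurj_apply μ.toAlgHom.toRingHom hμ (φ.comp (algebraMap A' D'.B)) hle a).symm
  have hφk : RingHom.ker φ = K := Ideal.mk_ker
  have hKπ : K ≤ RingHom.ker D'.π := by
    rw [D'.ker_π]
    exact Ideal.map_mono (le_maximalIdeal (RingHom.ker_ne_top _))
  let π : D'.B ⧸ K →+* B₀ := Ideal.Quotient.lift K D'.π fun b hb => hKπ hb
  have hmax : (maximalIdeal A').map μ.toAlgHom.toRingHom = maximalIdeal A := by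
    refine le_antisymm (Ideal.map_le_iff_le_comap.2 fun a ha => ?_) fun a ha => ?_
    · rw [Ideal.mem_comap, Art.mem_maximalIdeal_iff]
      exact (Art.res_app μ a).trans ((A'.mem_maximalIdeal_iff a).1 ha)
    · obtain ⟨a', rfl⟩ := hμ a
      exact Ideal.mem_map_of_mem μ.toAlgHom.toRingHom
        ((A'.mem_maximalIdeal_iff a').2 (by rw [← Art.res_app μ a']; exact (A.mem_maximalIdeal_iff _).1 ha))
  let D : H24Def.AlgDef B₀ A :=
    { B := D'.B ⧸ K
      flat := flat_of_surjective μ.toAlgHom.toRingHom hμ φ Ideal.Quotient.mk_surjective hc hφk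
      π := π
      π_algebraMap := fun a => by
        obtain ⟨a', rfl⟩ := hμ a
        rw [← hc, Art.res_app]
        exact D'.π_algebraMap a'
      π_surjective := fun b => by
        obtain ⟨c, hc⟩ := D'.π_surjective b
        exact ⟨φ c, hc⟩
      ker_π := by
        rw [← hmax, Ideal.map_map, show (algebraMap A (D'.B ⧸ K)).comp μ.toAlgHom.toRingHom =
          φ.comp (algebraMap A' D'.B) from RingHom.ext fun a => (hc a).symm, ← Ideal.map_map, ← D'.ker_π,
          Ideal.ker_quotient_lift] }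
  exact ⟨D, φ, Ideal.Quotient.mk_surjective, hc, fun _ => rfl, hφk,
    baseChange_iso μ hμ D' D φ Ideal.Quotient.mk_surjective hc (fun _ => rfl) hφk.le⟩

/-- A deformation with the given restriction maps onto it. -/
theorem exists_map_of_cl (μ : A' ⟶ A) (hμ : Function.Surjective μ) (D' : H24Def.AlgDef B₀ A')
    (D₁ : H24Def.AlgDef B₀ A)
    (h : (defFunctor (Spec (CommRingCat.of B₀)) (H24Def.affPt k B₀)).map μ D'.toSch.cl = D₁.toSch.cl) :
    ∃ φ : D'.B →+* D₁.B, Function.Surjective φ ∧
      (∀ a, φ (algebraMap A' D'.B a) = algebraMap A D₁.B (μ a)) ∧ (∀ b, D₁.π (φ b) = D'.π b) ∧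
      RingHom.ker φ = (RingHom.ker μ.toAlgHom.toRingHom).map (algebraMap A' D'.B) := by
  obtain ⟨D, φ, hφ, hc, hπ, hk, ⟨e⟩⟩ := exists_push μ hμ D'
  rw [defFunctor_map_cl] at h
  obtain ⟨e'⟩ := Quotient.exact h
  obtain ⟨E, hE⟩ := H24Def.AlgDef.rel_of_iso (e.symm.trans e')
  refine ⟨E.toRingEquiv.toRingHom.comp φ, E.surjective.comp hφ, fun a => ?_, fun b => (hE _).trans (hπ b), ?_⟩
  · show E (φ _) = _
    rw [hc, AlgEquiv.commutes]
  · rw [← hk]
    ext b
    simp [RingHom.mem_ker]

/-- In a flat deformation `t b = 0` forces `b` into the kernel of the reduction, if `t` spans the socle step. -/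
theorem π_eq_zero_of_mul_eq_zero (D : H24Def.AlgDef B₀ A) {t : A} (ht : ∀ a, a * t = 0 ↔ a ∈ maximalIdeal A)
    {b : D.B} (hb : algebraMap A D.B t * b = 0) : D.π b = 0 := by
  haveI := D.flat
  rw [← RingHom.mem_ker, D.ker_π]
  exact H24Def.mem_map_of_mul_mem_map (J := ⊥) (fun a => by rw [Ideal.mem_bot]; exact ht a) (by rw [Ideal.map_bot, Ideal.mem_bot]; exact hb)

end Groth.Agent.H28Def
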