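import Groth.Agent.H3CAlg.ArtinFlat
import Groth.Agent.H24Def.BurchLift
import Mathlib

/-!
# Flat modules over a fibre product of Artinian local rings
-/

set_option autoImplicit false
set_option linter.style.haveILetI false
universe u
open scoped TensorProduct

namespace Groth.Agent.H28Def

/-- Flat modules over an Artinian local ring are free. -/
theorem free_of_flat_artinian (A : Type u) [CommRing A] [IsLocalRing A] [IsArtinianRing A] (N : Type u)
    [AddCommGroup N] [Module A N] [Module.Flat A N] : Module.Free A N := by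
  classical
  set k := IsLocalRing.ResidueField A
  have hmk : Function.Surjective (algebraMap A k) := Ideal.Quotient.mk_surjective
  let bN := Module.Basis.ofVectorSpace k (k ⊗[A] N)
  choose d hd using fun i => TensorProduct.mk_surjective A N k hmk (bN i)
  let ψ := Finsupp.linearCombination A d
  let bG := Algebra.TensorProduct.basis k (Finsupp.basisSingleOne (R := A)
    (ι := Module.Basis.ofVectorSpaceIndex k (k ⊗[A] N)))
  have hψ : ψ.baseChange k = (bG.equiv bN (Equiv.refl _)).toLinearMap := by
    refine bG.ext fun i => ?_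
    rw [LinearEquiv.coe_coe, Module.Basis.equiv_apply, Equiv.refl_apply, ← hd i]
    simp [bG, ψ]
  have hψs : Function.Surjective (ψ.baseChange k) := by
    rw [hψ]; exact (bG.equiv bN (Equiv.refl _)).surjective
  have hψi : Function.Injective (ψ.baseChange k) := by
    rw [hψ]; exact (bG.equiv bN (Equiv.refl _)).injective
  have h1 := H3CAlg.surjective_of_lTensor_quot (IsLocalRing.maximalIdeal A) H3CAlg.isNilpotent_maximalIdeal ψ hψs
  exact Module.Free.of_equiv (LinearEquiv.ofBijective ψ
    ⟨H3CAlg.injective_of_surjective_of_lTensor_quot (IsLocalRing.maximalIdeal A)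
      H3CAlg.isNilpotent_maximalIdeal ψ h1 hψi, h1⟩)

variable {B A' A'' A : Type u} [CommRing B] [CommRing A'] [CommRing A''] [CommRing A]
  [Algebra B A'] [Algebra B A''] [Algebra B A] [Algebra A' A] [Algebra A'' A]
  [IsScalarTower B A' A] [IsScalarTower B A'' A]
  [IsLocalRing A'] [IsArtinianRing A'] [IsLocalRing A''] [IsArtinianRing A'']

set_option maxHeartbeats 1000000 in
/-- A module glued from flat modules over the factors of a fibre product is flat, and restricts to the factors. -/
theorem fibreProd_isBaseChange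
    (hne : RingHom.ker (algebraMap A'' A) ≠ ⊤)
    (hs : Function.Surjective (algebraMap A'' A))
    (hinj : ∀ b₁ b₂ : B, algebraMap B A' b₁ = algebraMap B A' b₂ → algebraMap B A'' b₁ = algebraMap B A'' b₂ → b₁ = b₂)
    (hsurj : ∀ (a' : A') (a'' : A''), algebraMap A' A a' = algebraMap A'' A a'' →
      ∃ b : B, algebraMap B A' b = a' ∧ algebraMap B A'' b = a'')
    {N N' N'' M : Type u} [AddCommGroup N] [AddCommGroup N'] [AddCommGroup N''] [AddCommGroup M]
    [Module B N] [Module A' N'] [Module B N'] [IsScalarTower B A' N'] [Module A'' N''] [Module B N'']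
    [IsScalarTower B A'' N''] [Module A M] [Module A' M] [IsScalarTower A' A M] [Module A'' M] [IsScalarTower A'' A M]
    [Module.Flat A' N'] [Module.Flat A'' N''] (u' : N' →ₗ[A'] M) (hu' : IsBaseChange A u')
    (u'' : N'' →ₗ[A''] M) (hu'' : IsBaseChange A u'') (r' : N →ₗ[B] N') (r'' : N →ₗ[B] N'')
    (hc : ∀ n, u' (r' n) = u'' (r'' n)) (hext : ∀ n₁ n₂, r' n₁ = r' n₂ → r'' n₁ = r'' n₂ → n₁ = n₂)
    (hlift : ∀ n' n'', u' n' = u'' n'' → ∃ n, r' n = n' ∧ r'' n = n'') :
    Module.Flat B N ∧ IsBaseChange A' r' ∧ IsBaseChange A'' r'' := by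
  classical
  haveI := free_of_flat_artinian A' N'
  haveI := free_of_flat_artinian A'' N''
  let ι := Module.Free.ChooseBasisIndex A' N'
  let b : Module.Basis ι A' N' := Module.Free.chooseBasis A' N'
  let c : Module.Basis ι A M := hu'.basis b
  let d := Module.Free.chooseBasis A'' N''
  let e := hu''.basis d
  have hu''s : Function.Surjective u'' := by
    intro m
    refine IsBaseChange.inductionOn hu'' m (fun m => ∃ x, u'' x = m) ⟨0, map_zero _⟩ (fun n => ⟨n, rfl⟩) ?_ ?_
    · rintro a _ ⟨x, rfl⟩
      obtain ⟨a', rfl⟩ := hs a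
      exact ⟨a' • x, by rw [map_smul, IsScalarTower.algebraMap_smul]⟩
    · rintro _ _ ⟨x, rfl⟩ ⟨y, rfl⟩
      exact ⟨x + y, map_add _ _ _⟩
  set J := RingHom.ker (algebraMap A'' A) with hJ
  have hJn : IsNilpotent (J.map (algebraMap A'' A'')) := by
    rw [Algebra.algebraMap_self, Ideal.map_id]
    obtain ⟨n, hn⟩ := (H3CAlg.isNilpotent_maximalIdeal : IsNilpotent (IsLocalRing.maximalIdeal A''))
    exact ⟨n, le_bot_iff.1 ((Ideal.pow_right_mono (IsLocalRing.le_maximalIdeal hne) n).trans hn.le)⟩
  have hker : ∀ x, u'' x = 0 → x ∈ (J.map (algebraMap A'' A'')) • (⊤ : Submodule A'' N'') := by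
    intro x hx
    rw [Algebra.algebraMap_self, Ideal.map_id, ← d.linearCombination_repr x, Finsupp.linearCombination_apply]
    refine Submodule.sum_mem _ fun i _ => Submodule.smul_mem_smul ?_ Submodule.mem_top
    rw [RingHom.mem_ker, ← hu''.basis_repr_comp_apply d x i, hx, map_zero]
    rfl
  choose g hg using fun i => hu''s (c i)
  let ψ : (ι →₀ A'') →ₗ[A''] N'' := Finsupp.linearCombination A'' g
  have huψ : ∀ x, u'' (ψ x) = Finsupp.linearCombination A c (x.mapRange (algebraMap A'' A) (map_zero _)) := by
    intro x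
    rw [Finsupp.linearCombination_apply, Finsupp.linearCombination_apply, map_finsuppSum, Finsupp.sum_mapRange_index (by simp)]
    exact Finsupp.sum_congr fun i _ => by rw [map_smul, hg, IsScalarTower.algebraMap_smul]
  have hψs : Function.Surjective ψ := by
    have h := H24Def.le_of_le_sup_smul (A := A'') hJn (N := (⊤ : Submodule A'' N'')) (P := LinearMap.range ψ) (by
      intro x _
      obtain ⟨y, hy⟩ := Finsupp.mapRange_surjective (algebraMap A'' A) (map_zero _) hs (c.repr (u'' x))
      refine Submodule.mem_sup.2 ⟨ψ y, ⟨y, rfl⟩, x - ψ y, hker _ ?_, add_sub_cancel _ _⟩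
      rw [map_sub, huψ, hy, c.linearCombination_repr, sub_self])
    exact fun x => h Submodule.mem_top
  obtain ⟨σ, hσ⟩ := Module.projective_lifting_property ψ LinearMap.id hψs
  have hψi : Function.Injective ψ := by
    rw [← LinearMap.ker_eq_bot, ← le_bot_iff]
    refine H24Def.le_of_le_sup_smul (A := A'') hJn ?_
    intro x hx
    rw [bot_sup_eq]
    have h1 : ∀ i, x i ∈ J := fun i => by
      have := huψ x
      rw [LinearMap.mem_ker.1 hx, map_zero] at this
      have h2 := DFunLike.congr_fun (linearIndependent_iff.1 c.linearIndependent _ this.symm) i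
      simpa [RingHom.mem_ker, hJ] using h2
    let π : (ι →₀ A'') →ₗ[A''] LinearMap.ker ψ :=
      (LinearMap.id - σ ∘ₗ ψ).codRestrict _ fun y => by
        rw [LinearMap.mem_ker, LinearMap.sub_apply, map_sub, LinearMap.id_apply, LinearMap.comp_apply,
          ← LinearMap.comp_apply ψ σ, hσ, LinearMap.id_apply, sub_self]
    have hxπ : x = (π x : ι →₀ A'') := by simp [π, LinearMap.mem_ker.1 hx]
    rw [Algebra.algebraMap_self, Ideal.map_id, hxπ]
    conv in π x => rw [← x.sum_single, map_finsuppSum]
    rw [Finsupp.sum, Submodule.coe_sum]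
    refine Submodule.sum_mem _ fun i _ => ?_
    rw [← Finsupp.smul_single_one, map_smul, Submodule.coe_smul]
    exact Submodule.smul_mem_smul (h1 i) (π _).2
  let d' : Module.Basis ι A'' N'' := Module.Basis.ofRepr (LinearEquiv.ofBijective ψ ⟨hψi, hψs⟩).symm
  have hd' : ∀ i, d' i = g i := fun i => by
    rw [Module.Basis.coe_ofRepr]
    show Finsupp.linearCombination A'' g (Finsupp.single i 1) = g i
    rw [Finsupp.linearCombination_single, one_smul]
  choose β hβ' hβ'' using fun i => hlift (b i) (g i) (by rw [hg]; exact (hu'.basis_apply b i).symm)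
  let φ : (ι →₀ B) →ₗ[B] N := Finsupp.linearCombination B β
  have hφ' : ∀ x i, b.repr (r' (φ x)) i = algebraMap B A' (x i) := fun x i => by
    induction x using Finsupp.induction_linear with
    | zero => simp
    | add x y hx hy => simp only [map_add, Finsupp.add_apply, hx, hy]
    | single j a =>
      rw [Finsupp.linearCombination_single, map_smul, hβ', ← IsScalarTower.algebraMap_smul A', map_smul,
        b.repr_self]
      simp [Finsupp.single_apply, apply_ite (algebraMap B A'), Algebra.smul_def, eq_comm]
  have hφ'' : ∀ x i, d'.repr (r'' (φ x)) i = algebraMap B A'' (x i) := fun x i => by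
    induction x using Finsupp.induction_linear with
    | zero => simp
    | add x y hx hy => simp only [map_add, Finsupp.add_apply, hx, hy]
    | single j a =>
      rw [Finsupp.linearCombination_single, map_smul, hβ'', ← hd', ← IsScalarTower.algebraMap_smul A'', map_smul,
        d'.repr_self]
      simp [Finsupp.single_apply, apply_ite (algebraMap B A''), Algebra.smul_def, eq_comm]
  have hφi : Function.Injective φ := fun x y h => Finsupp.ext fun i => hinj _ _
    (by rw [← hφ', ← hφ', h]) (by rw [← hφ'', ← hφ'', h])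
  have hcoord : ∀ n i, algebraMap A' A (b.repr (r' n) i) = algebraMap A'' A (d'.repr (r'' n) i) := by
    intro n i
    rw [← hu'.basis_repr_comp_apply b, hc]
    conv_lhs => rw [← d'.linearCombination_repr (r'' n)]
    rw [Finsupp.linearCombination_apply, map_finsuppSum]
    have : ∀ j a, u'' (a • d' j) = algebraMap A'' A a • c j := fun j a => by
      rw [map_smul, hd', hg, IsScalarTower.algebraMap_smul]
    simp only [this]
    rw [Finsupp.sum, map_sum, Finsupp.finsetSum_apply]
    rw [Finset.sum_eq_single i]
    · rw [map_smul, c.repr_self]; simp [Algebra.smul_def]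
    · intro j _ hj
      rw [map_smul, c.repr_self]; simp [Finsupp.single_eq_of_ne hj.symm]
    · intro hi
      rw [Finsupp.notMem_support_iff.1 hi, map_zero, zero_smul, map_zero]; rfl
  have hφs : Function.Surjective φ := by
    intro n
    choose x hx' hx'' using fun i => hsurj _ _ (hcoord n i)
    have hfin : ∀ i, i ∉ (b.repr (r' n)).support ∪ (d'.repr (r'' n)).support → x i = 0 := fun i hi => by
      rw [Finset.mem_union, not_or, Finsupp.notMem_support_iff, Finsupp.notMem_support_iff] at hi
      exact hinj _ _ (by rw [hx', hi.1, map_zero]) (by rw [hx'', hi.2, map_zero])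
    let y : ι →₀ B := Finsupp.onFinset _ x fun i hi => by_contra fun h => hi (hfin i h)
    refine ⟨y, hext _ _ (b.repr.injective (Finsupp.ext fun i => ?_)) (d'.repr.injective (Finsupp.ext fun i => ?_))⟩
    · rw [hφ', ← hx' i]; rfl
    · rw [hφ'', ← hx'' i]; rfl
  let β₀ : Module.Basis ι B N := Module.Basis.ofRepr (LinearEquiv.ofBijective φ ⟨hφi, hφs⟩).symm
  have hβ₀ : ∀ i, β₀ i = β i := fun i => by
    rw [Module.Basis.coe_ofRepr]
    show Finsupp.linearCombination B β (Finsupp.single i 1) = β i
    rw [Finsupp.linearCombination_single, one_smul]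
  haveI := Module.Free.of_basis β₀
  refine ⟨Module.Flat.of_free, ?_, ?_⟩
  · refine IsBaseChange.of_equiv ((Algebra.TensorProduct.basis A' β₀).equiv b (Equiv.refl _)) fun n => ?_
    refine b.repr.injective (Finsupp.ext fun i => ?_)
    rw [show n = φ (β₀.repr n) from ((LinearEquiv.ofBijective φ ⟨hφi, hφs⟩).apply_symm_apply n).symm, hφ']
    simp [Module.Basis.equiv, Algebra.TensorProduct.basis_repr_tmul]
    rw [show φ (β₀.repr n) = n from (LinearEquiv.ofBijective φ ⟨hφi, hφs⟩).apply_symm_apply n]
  · refine IsBaseChange.of_equiv ((Algebra.TensorProduct.basis A'' β₀).equiv d' (Equiv.refl _)) fun n => ?_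
    refine d'.repr.injective (Finsupp.ext fun i => ?_)
    rw [show n = φ (β₀.repr n) from ((LinearEquiv.ofBijective φ ⟨hφi, hφs⟩).apply_symm_apply n).symm, hφ'']
    simp [Module.Basis.equiv, Algebra.TensorProduct.basis_repr_tmul]
    rw [show φ (β₀.repr n) = n from (LinearEquiv.ofBijective φ ⟨hφi, hφs⟩).apply_symm_apply n]

end Groth.Agent.H28Def
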