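import Groth.Prelude.Def_ArtFun4
import Groth.Agent.H24Def.GlobalFibre
import Groth.Agent.H24Def.BurchLift
import Groth.Agent.H28Def.FibreProd
import Groth.Agent.H7Lim.Thickening
import Mathlib

/-!
# Morphisms of deformations are isomorphisms
-/

set_option autoImplicit false
set_option linter.style.haveILetI false
universe u
open CategoryTheory CategoryTheory.Limits AlgebraicGeometry IsLocalRing ArtFun ArtFun.Art Opposite

namespace Groth.Agent.H28Def

variable {C D : Type u} [CommRing C] [CommRing D] {T S : Scheme.{u}}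

/-- Scalars are natural. -/
theorem appLE_scalar (μ : C →+* D) (a : T ⟶ S) (g₀ : T ⟶ Spec (CommRingCat.of D)) (g : S ⟶ Spec (CommRingCat.of C))
    (w : a ≫ g = g₀ ≫ Spec.map (CommRingCat.ofHom μ)) (U : S.Opens) (W : T.Opens) (e : W ≤ a ⁻¹ᵁ U) (c : C) :
    a.appLE U W e (H24Def.scalar g U c) = H24Def.scalar g₀ W (μ c) := by
  let m := CommRingCat.ofHom μ
  have : ((Scheme.ΓSpecIso (CommRingCat.of C)).inv ≫ g.appLE ⊤ U le_top) ≫ a.appLE U W e =
      m ≫ (Scheme.ΓSpecIso (CommRingCat.of D)).inv ≫ g₀.appLE ⊤ W le_top := by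
    rw [Scheme.ΓSpecIso_inv_naturality_assoc, Category.assoc, Scheme.Hom.appTop,
      Scheme.Hom.app_eq_appLE (Spec.map m) (U := ⊤)]
    congr 1
    erw [Scheme.Hom.appLE_comp_appLE, Scheme.Hom.appLE_comp_appLE]
    simp only [w, m]
  exact ConcreteCategory.congr_hom this c

/-- An affine open maps to the base by the scalars. -/
theorem fromSpec_comp (g : S ⟶ Spec (CommRingCat.of C)) {U : S.Opens} (hU : IsAffineOpen U) :
    hU.fromSpec ≫ g = Spec.map (CommRingCat.ofHom (H24Def.scalar g U)) := by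
  have h : CommRingCat.ofHom (H24Def.scalar g U) =
      (Scheme.ΓSpecIso (CommRingCat.of C)).inv ≫ g.appLE ⊤ U le_top := rfl
  rw [h, Spec.map_comp, ← IsAffineOpen.SpecMap_appLE_fromSpec g (isAffineOpen_top _) hU le_top,
    IsAffineOpen.fromSpec_top, Scheme.isoSpec_Spec_inv]

/-- Sections over an affine open of a base change. -/
theorem isPushout_scalar (μ : C →+* D) (a : T ⟶ S) (g₀ : T ⟶ Spec (CommRingCat.of D))
    (g : S ⟶ Spec (CommRingCat.of C)) (hsq : IsPullback a g₀ g (Spec.map (CommRingCat.ofHom μ)))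
    {U : S.Opens} (hU : IsAffineOpen U) (W : T.Opens) (hW : W = a ⁻¹ᵁ U) :
    IsPushout (CommRingCat.ofHom μ) (CommRingCat.ofHom (H24Def.scalar g U))
      (CommRingCat.ofHom (H24Def.scalar g₀ W)) (a.appLE U W hW.le) := by
  subst hW
  let m := CommRingCat.ofHom μ
  have hY : a ⁻¹ᵁ U = a ⁻¹ᵁ U ⊓ g₀ ⁻¹ᵁ (⊤ : (Spec (CommRingCat.of D)).Opens) := by simp
  haveI := isIso_pushoutSection_of_isAffineOpen hsq (US := ⊤) (UT := ⊤) (UX := U) (UY := a ⁻¹ᵁ U)
    le_top le_top hY (isAffineOpen_top _) (isAffineOpen_top _) hU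
  refine (((isIso_pushoutSection_iff hsq le_top le_top hY).mp inferInstance).of_iso
    (Scheme.ΓSpecIso (CommRingCat.of C)) (Iso.refl _) (Scheme.ΓSpecIso (CommRingCat.of D))
    (Iso.refl _) ?_ ?_ ?_ ?_).flip
  · show g.appLE ⊤ U le_top ≫ 𝟙 _ =
      (Scheme.ΓSpecIso (CommRingCat.of C)).hom ≫ (Scheme.ΓSpecIso (CommRingCat.of C)).inv ≫ g.appLE ⊤ U le_top
    rw [Category.comp_id, Iso.hom_inv_id_assoc]
  · rw [← Scheme.ΓSpecIso_naturality, Scheme.Hom.appTop, Scheme.Hom.app_eq_appLE]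
    rfl
  · show a.appLE U (a ⁻¹ᵁ U) _ ≫ 𝟙 _ = 𝟙 _ ≫ a.appLE U (a ⁻¹ᵁ U) _
    rw [Category.comp_id, Category.id_comp]
  · show g₀.appLE ⊤ (a ⁻¹ᵁ U) _ ≫ 𝟙 _ = (Scheme.ΓSpecIso (CommRingCat.of D)).hom ≫
      (Scheme.ΓSpecIso (CommRingCat.of D)).inv ≫ g₀.appLE ⊤ (a ⁻¹ᵁ U) le_top
    rw [Category.comp_id, Iso.hom_inv_id_assoc]

section

variable {Λ k : Type u} [CommRing Λ] [Field k] [Algebra Λ k] {X : Scheme.{u}} {x : X ⟶ specPt k} {A : Art Λ k}

/-- The quotient by the maximal ideal is `k`. -/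
noncomputable def resEquiv (A : Art Λ k) : (A ⧸ maximalIdeal A) ≃+* k :=
  (Ideal.quotEquivOfEq (by ext a; rw [RingHom.mem_ker]; exact A.mem_maximalIdeal_iff a)).trans
    (RingHom.quotientKerEquivOfSurjective (f := A.res.toRingHom) A.res_surjective)

/-- A deformation as a base change along `A → A/m`. -/
theorem isPullback_quot (ξ : DefSch X x A) :
    IsPullback ξ.i (x ≫ Spec.map (CommRingCat.ofHom (resEquiv A).toRingHom)) ξ.f
      (Spec.map (CommRingCat.ofHom (Ideal.Quotient.mk (maximalIdeal A)))) := by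
  haveI : IsIso (CommRingCat.ofHom (resEquiv A).toRingHom) := (resEquiv A).toCommRingCatIso.isIso_hom
  refine ξ.isPullback.of_iso (Iso.refl _) (Iso.refl _) (asIso (Spec.map (CommRingCat.ofHom (resEquiv A).toRingHom)))
    (Iso.refl _) (by simp) (by simp) (by simp) ?_
  show specRes A ≫ 𝟙 _ = Spec.map _ ≫ Spec.map _
  rw [Category.comp_id, ← Spec.map_comp, ← CommRingCat.ofHom_comp]
  congr 2

/-- The closed fibre is a surjective closed immersion. -/
theorem isClosedImmersion_i (ξ : DefSch X x A) : IsClosedImmersion ξ.i ∧ Function.Surjective ξ.i := by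
  haveI h1 : IsClosedImmersion (specRes A) := IsClosedImmersion.spec_of_surjective _ A.res_surjective
  have h2 : Surjective (specRes A) := ⟨fun p => by
    haveI : Subsingleton (PrimeSpectrum A) := inferInstance
    exact ⟨(default : PrimeSpectrum k), Subsingleton.elim (α := PrimeSpectrum A) _ p⟩⟩
  exact ⟨MorphismProperty.of_isPullback (P := @IsClosedImmersion) ξ.isPullback.flip h1,
    (MorphismProperty.of_isPullback (P := @Surjective) ξ.isPullback.flip h2).surj⟩

/-- A linear map into a flat module that is bijective modulo a nilpotent ideal is bijective. -/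
theorem bijective_of_mod_nilpotent {R P Q : Type u} [CommRing R] [IsLocalRing R] [IsArtinianRing R] [AddCommGroup P]
    [Module R P] [AddCommGroup Q] [Module R Q] [Module.Flat R Q] (h : P →ₗ[R] Q)
    (hs : ∀ q, ∃ p, q - h p ∈ maximalIdeal R • (⊤ : Submodule R Q))
    (hi : ∀ p, h p = 0 → p ∈ maximalIdeal R • (⊤ : Submodule R P)) : Function.Bijective h := by
  have hn : IsNilpotent ((maximalIdeal R).map (algebraMap R R)) := by
    rw [Algebra.algebraMap_self, Ideal.map_id]; exact H3CAlg.isNilpotent_maximalIdeal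
  have hsurj : Function.Surjective h := by
    have h1 := H24Def.le_of_le_sup_smul (A := R) hn (N := (⊤ : Submodule R Q)) (P := LinearMap.range h) (by
      intro q _
      obtain ⟨p, hp⟩ := hs q
      rw [Algebra.algebraMap_self, Ideal.map_id]
      exact Submodule.mem_sup.2 ⟨h p, ⟨p, rfl⟩, q - h p, hp, add_sub_cancel _ _⟩)
    exact fun q => h1 Submodule.mem_top
  refine ⟨?_, hsurj⟩
  rw [← LinearMap.ker_eq_bot, ← le_bot_iff]
  refine H24Def.le_of_le_sup_smul (A := R) hn fun p hp => ?_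
  rw [bot_sup_eq]
  exact H24Def.mem_smul_ker (C := R) (A := R) (maximalIdeal R) h hsurj
    (by rw [Algebra.algebraMap_self, Ideal.map_id]; exact hi p hp) hp

set_option maxHeartbeats 1000000 in
/-- A morphism of deformations over the base and under the closed fibre is an isomorphism. -/
theorem isIso_of_def_hom {η η' : DefSch X x A} (c : η.total ⟶ η'.total) (hf : c ≫ η'.f = η.f)
    (hi : η.i ≫ c = η'.i) : IsIso c := by
  obtain ⟨hci, hsur⟩ := isClosedImmersion_i η
  obtain ⟨hci', hsur'⟩ := isClosedImmersion_i η'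
  haveI := hci
  haveI := hci'
  have hpre : ∀ U : η'.total.Opens, η.i ⁻¹ᵁ (c ⁻¹ᵁ U) = η'.i ⁻¹ᵁ U := fun U => by
    rw [← Scheme.Hom.comp_preimage, hi]
  have haff : ∀ U : η'.total.Opens, IsAffineOpen U → IsAffineOpen (c ⁻¹ᵁ U) := fun U hU => by
    haveI : IsAffine (η.i ⁻¹ᵁ (c ⁻¹ᵁ U)).toScheme := (hpre U).symm ▸ hU.preimage η'.i
    haveI : IsClosedImmersion (η.i ∣_ (c ⁻¹ᵁ U)) :=
      IsZariskiLocalAtTarget.restrict (P := @IsClosedImmersion) inferInstance _
    exact H7Lim.isAffine_of_surjective_closedImmersion (η.i ∣_ (c ⁻¹ᵁ U)) fun z => by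
      obtain ⟨w, hw⟩ := hsur z.1
      refine ⟨⟨w, show η.i w ∈ c ⁻¹ᵁ U by rw [hw]; exact z.2⟩, Subtype.ext ?_⟩
      rw [morphismRestrict_base]
      exact hw
  haveI : IsAffineHom c := ⟨haff⟩
  refine (MorphismProperty.isomorphisms.iff _).mp (IsZariskiLocalAtTarget.of_iSup_eq_top
    (P := MorphismProperty.isomorphisms Scheme.{u}) _ (iSup_affineOpens_eq_top η'.total) fun U => ?_)
  rw [MorphismProperty.isomorphisms.iff]
  haveI : IsAffine U.1.toScheme := U.2
  haveI : IsAffine (c ⁻¹ᵁ U.1).toScheme := haff _ U.2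
  let h := (c.app U.1).hom
  let W := η'.i ⁻¹ᵁ U.1
  letI := (H24Def.scalar η'.f U.1).toAlgebra
  letI := (H24Def.scalar η.f (c ⁻¹ᵁ U.1)).toAlgebra
  haveI : Module.Flat A Γ(η.total, c ⁻¹ᵁ U.1) := H24Def.flat_scalar η.f (haff _ U.2)
  let hl : Γ(η'.total, U.1) →ₗ[A] Γ(η.total, c ⁻¹ᵁ U.1) :=
    { toFun := h
      map_add' := map_add h
      map_smul' := fun a r => by
        rw [RingHom.id_apply, Algebra.smul_def, Algebra.smul_def, map_mul]
        congr 1
        show c.app U.1 (H24Def.scalar η'.f U.1 a) = H24Def.scalar η.f _ a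
        rw [Scheme.Hom.app_eq_appLE]
        exact appLE_scalar (RingHom.id A) c η.f η'.f (by rw [hf, CommRingCat.ofHom_id, Spec.map_id, Category.comp_id])
          _ _ _ a }
  have htri : ∀ r, η.i.appLE (c ⁻¹ᵁ U.1) W (hpre U.1).ge (h r) = η'.i.app U.1 r := fun r => by
    show (c.app U.1 ≫ η.i.appLE _ W _) r = _
    rw [Scheme.Hom.app_eq_appLE, Scheme.Hom.appLE_comp_appLE, Scheme.Hom.app_eq_appLE]
    simp only [hi]
    rfl
  have hk' : ∀ r, η'.i.app U.1 r = 0 ↔ r ∈ maximalIdeal A • (⊤ : Submodule A Γ(η'.total, U.1)) := fun r => by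
    rw [Ideal.smul_top_eq_map, Submodule.restrictScalars_mem]
    exact H24Def.app_eq_zero_iff η'.i _ (isPullback_quot η') U.2 r
  have hk : ∀ r, η.i.appLE (c ⁻¹ᵁ U.1) W (hpre U.1).ge r = 0 ↔
      r ∈ maximalIdeal A • (⊤ : Submodule A Γ(η.total, c ⁻¹ᵁ U.1)) := fun r => by
    rw [Ideal.smul_top_eq_map, Submodule.restrictScalars_mem]
    refine Iff.trans ?_ (H24Def.app_eq_zero_iff η.i _ (isPullback_quot η) (haff _ U.2) r)
    rw [Scheme.Hom.app_eq_appLE]
    constructor <;> intro h0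
    · rw [← η.i.appLE_map (hpre U.1).ge (eqToHom (hpre U.1)).op, CommRingCat.comp_apply, h0, map_zero]
    · rw [← η.i.appLE_map le_rfl (eqToHom (hpre U.1).symm).op, CommRingCat.comp_apply, h0, map_zero]
  have hb : Function.Bijective hl := bijective_of_mod_nilpotent hl (fun q => by
    obtain ⟨p, hp⟩ := η'.i.app_surjective U.1 U.2 (η.i.appLE (c ⁻¹ᵁ U.1) W (hpre U.1).ge q)
    exact ⟨p, (hk _).1 (by rw [map_sub]; show _ - η.i.appLE _ _ _ (h p) = 0; rw [htri, hp, sub_self])⟩) fun p hp => by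
    refine (hk' p).1 ?_
    rw [← htri, show h p = 0 from hp, map_zero]
  haveI : IsIso (c.app U.1) := (ConcreteCategory.isIso_iff_bijective _).mpr hb
  exact (isIso_morphismRestrict_iff_isIso_app c U.2).mpr inferInstance

end

end Groth.Agent.H28Def
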