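import Groth.Agent.H28Def.DefFunctor
import Mathlib

/-!
# Bijective comparison maps and lifting of automorphisms
-/

set_option autoImplicit false
set_option linter.style.haveILetI false
universe u
open CategoryTheory CategoryTheory.Limits AlgebraicGeometry IsLocalRing ArtFun ArtFun.Art

namespace Groth.Agent.H28Def

variable {Λ k : Type u} [CommRing Λ] [Field k] [Algebra Λ k] {X : Scheme.{u}} {x : X ⟶ specPt k}

theorem iso_ext {A : Art Λ k} {ξ ξ' : DefSch X x A} {e e' : DefSch.Iso ξ ξ'} (h : e.iso.hom = e'.iso.hom) : e = e' := by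
  cases e; cases e'
  congr 1
  exact Iso.ext h

/-- The restriction of an isomorphism commutes with the projections. -/
theorem baseChange_hom_fst {A B : Art Λ k} {ξ ξ' : DefSch X x A} (e : DefSch.Iso ξ ξ') (g : A ⟶ B) :
    (e.baseChange g).iso.hom ≫ pullback.fst ξ'.f (specMap g) = pullback.fst ξ.f (specMap g) ≫ e.iso.hom :=
  DefSch.pullMap_fst e.iso.hom e.hom_f g

variable {B A A' A'' : Art Λ k} {p' : B ⟶ A'} {p'' : B ⟶ A''} {f' : A' ⟶ A} {f'' : A'' ⟶ A}

/-- An isomorphism of base changes gives a cartesian map. -/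
theorem exists_cartesian {η η₂ : DefSch X x B} {g : B ⟶ A} (e : DefSch.Iso (η.baseChange g) (η₂.baseChange g)) :
    ∃ a : (η.baseChange g).total ⟶ η₂.total, IsPullback a (η.baseChange g).f η₂.f (specMap g) ∧
      (η.baseChange g).i ≫ a = η₂.i := by
  refine ⟨e.iso.hom ≫ pullback.fst η₂.f (specMap g), ?_, ?_⟩
  · refine (IsPullback.of_hasPullback η₂.f (specMap g)).of_iso e.iso.symm (Iso.refl _) (Iso.refl _) (Iso.refl _)
      ?_ ?_ (by simp) (by simp)
    · rw [Iso.refl_hom, Category.comp_id, Iso.symm_hom, Iso.inv_hom_id_assoc]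
    · rw [Iso.refl_hom, Category.comp_id, Iso.symm_hom, ← e.hom_f, Iso.inv_hom_id_assoc]
  · rw [← Category.assoc, e.i_hom]
    exact DefSch.baseChange_i_fst _ _

theorem specMap_comp_eq (h : IsFibreProd p' p'' f' f'') :
    specMap f'' ≫ specMap p'' = specMap f' ≫ specMap p' := by
  rw [← Art.specMap_comp, ← Art.specMap_comp, h.w]

/-- Lifting of automorphisms gives injectivity of the comparison map. -/
theorem injective_cmp_of_lift (h : IsFibreProd p' p'' f' f'') (hs : Function.Surjective f'')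
    (hlift : ∀ ξ : DefSch X x A'', Function.Surjective (fun e : ξ.Iso ξ => e.baseChange f'')) :
    Function.Injective (cmp (defFunctor (Λ := Λ) X x) h) := by
  intro y₁ y₂ hy
  obtain ⟨η₁, rfl⟩ := Quotient.exists_rep y₁
  obtain ⟨η₂, rfl⟩ := Quotient.exists_rep y₂
  obtain ⟨e'⟩ := Quotient.exact (congrArg (fun z => z.1.1) hy)
  obtain ⟨e''⟩ := Quotient.exact (congrArg (fun z => z.1.2) hy)
  let ξ' := η₁.baseChange p'
  let ξ'' := η₁.baseChange p''
  let T := ξ''.baseChange f''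
  let i : T.total ⟶ ξ''.total := pullback.fst ξ''.f (specMap f'')
  have hi : IsPullback i T.f ξ''.f (specMap f'') := IsPullback.of_hasPullback _ _
  have hc := hi.paste_horiz (IsPullback.of_hasPullback η₁.f (specMap p''))
  rw [specMap_comp_eq h] at hc
  let j : T.total ⟶ ξ'.total := pullback.lift (i ≫ pullback.fst η₁.f (specMap p'')) (T.f ≫ specMap f')
    (hc.w.trans (Category.assoc _ _ _).symm)
  have hj1 : j ≫ pullback.fst η₁.f (specMap p') = i ≫ pullback.fst η₁.f (specMap p'') := pullback.lift_fst _ _ _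
  have hj : IsPullback j T.f ξ'.f (specMap f') :=
    IsPullback.of_right (by rw [hj1]; exact hc) (pullback.lift_snd _ _ _) (IsPullback.of_hasPullback η₁.f (specMap p'))
  have hii : T.i ≫ i = ξ''.i := DefSch.baseChange_i_fst _ _
  have hij : T.i ≫ j = ξ'.i := by
    apply pullback.hom_ext
    · rw [Category.assoc, hj1, ← Category.assoc, hii]
      exact (DefSch.baseChange_i_fst η₁ p'').trans (DefSch.baseChange_i_fst η₁ p').symm
    · rw [Category.assoc, pullback.lift_snd, ← Category.assoc, T.i_f, Category.assoc, specRes_comp]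
      exact ξ'.i_f.symm
  obtain ⟨η₀, a, b, hpo, ha, hb, hai, -⟩ := exists_glue h hs T ξ' ξ'' i j hi hj hii hij
  obtain ⟨a₂, ha₂, hai₂⟩ := exists_cartesian e'
  obtain ⟨b₂, hb₂, hbi₂⟩ := exists_cartesian e''
  have hP : IsPullback (i ≫ b₂) T.f η₂.f (specMap f' ≫ specMap p') := by
    rw [← specMap_comp_eq h]; exact hi.paste_horiz hb₂
  have hQ : IsPullback (j ≫ a₂) T.f η₂.f (specMap f' ≫ specMap p') := hj.paste_horiz ha₂
  let δ : T.total ⟶ T.total := hP.lift (j ≫ a₂) T.f hQ.w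
  have hδi : T.i ≫ δ = T.i := hP.hom_ext
    (by rw [Category.assoc, hP.lift_fst, ← Category.assoc, hij, ← Category.assoc, hii, hai₂, hbi₂])
    (by rw [Category.assoc, hP.lift_snd])
  haveI := isIso_of_def_hom (η := T) (η' := T) δ (hP.lift_snd _ _ _) hδi
  obtain ⟨e, he⟩ := hlift ξ'' ⟨asIso δ, hP.lift_snd _ _ _, hδi⟩
  have he1 : δ ≫ i = i ≫ e.iso.hom := by
    have := baseChange_hom_fst e f''
    rw [congrArg (fun z : T.Iso T => z.iso.hom) he] at this
    exact this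
  obtain ⟨u₁⟩ := nonempty_iso_of_glued h hpo hai ha.w hb.w η₁ (pullback.fst _ _) (pullback.fst _ _)
    hj1.symm pullback.condition pullback.condition (DefSch.baseChange_i_fst _ _)
  obtain ⟨u₂⟩ := nonempty_iso_of_glued h hpo hai ha.w hb.w η₂ a₂ (e.iso.hom ≫ b₂)
    (by rw [← Category.assoc, ← he1, Category.assoc, hP.lift_fst]) ha₂.w
    (by rw [Category.assoc, hb₂.w, ← Category.assoc]; exact congrArg (· ≫ specMap p'') e.hom_f) hai₂
  exact Quotient.sound ⟨u₁.symm.trans u₂⟩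

variable {P : Art Λ k} {q₁ q₂ : P ⟶ A'} {p : A' ⟶ A}

/-- Injectivity of the comparison map gives lifting of automorphisms. -/
theorem lift_of_injective (h : IsFibreProd q₁ q₂ p p) (hp : Function.Surjective p)
    (hinj : Function.Injective (cmp (defFunctor (Λ := Λ) X x) h)) (ξ : DefSch X x A') :
    Function.Surjective (fun e : ξ.Iso ξ => e.baseChange p) := by
  intro θ
  let T := ξ.baseChange p
  let i : T.total ⟶ ξ.total := pullback.fst ξ.f (specMap p)
  have hi : IsPullback i T.f ξ.f (specMap p) := IsPullback.of_hasPullback _ _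
  obtain ⟨j, hj, hij, hjdef⟩ := exists_common ξ ξ θ
  obtain ⟨η₁, a₁, b₁, hpo₁, ha₁, hb₁, hai₁, hbi₁⟩ :=
    exists_glue h hp T ξ ξ i j hi hj (DefSch.baseChange_i_fst _ _) hij
  obtain ⟨η₂, a₂, b₂, hpo₂, ha₂, hb₂, hai₂, hbi₂⟩ :=
    exists_glue h hp T ξ ξ i i hi hi (DefSch.baseChange_i_fst _ _) (DefSch.baseChange_i_fst _ _)
  obtain ⟨u⟩ : Nonempty (DefSch.Iso η₁ η₂) := Quotient.exact (hinj (FibProd.ext
    (Quotient.sound ⟨(isoOfIsPullback η₁ ξ a₁ ha₁ hai₁).trans (isoOfIsPullback η₂ ξ a₂ ha₂ hai₂).symm⟩)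
    (Quotient.sound ⟨(isoOfIsPullback η₁ ξ b₁ hb₁ hbi₁).trans (isoOfIsPullback η₂ ξ b₂ hb₂ hbi₂).symm⟩)) :
      (Quotient.mk _ η₁ : (defFunctor (Λ := Λ) X x).obj P) = Quotient.mk _ η₂)
  have key : ∀ {g : P ⟶ A'} {c₁ : ξ.total ⟶ η₁.total} {c₂ : ξ.total ⟶ η₂.total}, IsPullback c₁ ξ.f η₁.f (specMap g) →
      IsPullback c₂ ξ.f η₂.f (specMap g) → ξ.i ≫ c₁ = η₁.i → ξ.i ≫ c₂ = η₂.i →
      ∃ e : ξ.Iso ξ, e.iso.hom ≫ c₂ = c₁ ≫ u.iso.hom := by
    intro g c₁ c₂ h1 h2 h1i h2i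
    let d := h2.lift (c₁ ≫ u.iso.hom) ξ.f (by rw [Category.assoc, u.hom_f]; exact h1.w)
    have hdi : ξ.i ≫ d = ξ.i := h2.hom_ext
      (by rw [Category.assoc, h2.lift_fst, ← Category.assoc, h1i, u.i_hom, h2i])
      (by rw [Category.assoc, h2.lift_snd])
    haveI := isIso_of_def_hom (η := ξ) (η' := ξ) d (h2.lift_snd _ _ _) hdi
    exact ⟨⟨asIso d, h2.lift_snd _ _ _, hdi⟩, h2.lift_fst _ _ _⟩
  obtain ⟨e₁, he₁⟩ := key ha₁ ha₂ hai₁ hai₂
  obtain ⟨e₂, he₂⟩ := key hb₁ hb₂ hbi₁ hbi₂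
  refine ⟨e₁.trans e₂.symm, iso_ext ?_⟩
  haveI : IsClosedImmersion b₂ := MorphismProperty.of_isPullback (P := @IsClosedImmersion) hb₂.flip
    (hom_toRingHom_surj q₂ (fun a => by
      obtain ⟨a', ha'⟩ := hp (p a)
      obtain ⟨b, -, hb⟩ := h.surj a' a ha'
      exact ⟨b, hb⟩))
  haveI : IsClosedImmersion i := MorphismProperty.of_isPullback (P := @IsClosedImmersion) hi.flip (hom_toRingHom_surj p hp)
  have h2 : (e₂.baseChange p).iso.hom = θ.iso.inv ≫ (e₁.baseChange p).iso.hom := by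
    rw [← cancel_mono (i ≫ b₂)]
    calc (e₂.baseChange p).iso.hom ≫ i ≫ b₂ = i ≫ b₁ ≫ u.iso.hom := by
          rw [← Category.assoc, baseChange_hom_fst, Category.assoc, he₂]
      _ = j ≫ a₁ ≫ u.iso.hom := by rw [← Category.assoc, hpo₁.w, Category.assoc]
      _ = θ.iso.inv ≫ i ≫ e₁.iso.hom ≫ a₂ := by rw [hjdef, Category.assoc, he₁]
      _ = _ := by
          rw [hpo₂.w, Category.assoc, ← Category.assoc (e₁.baseChange p).iso.hom, baseChange_hom_fst, Category.assoc]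
  show ((e₁.trans e₂.symm).baseChange p).iso.hom = θ.iso.hom
  have h3 : ((e₁.trans e₂.symm).baseChange p).iso.hom = (e₁.baseChange p).iso.hom ≫ (e₂.baseChange p).iso.inv := by
    apply pullback.hom_ext
    · rw [baseChange_hom_fst, Category.assoc]
      show _ ≫ e₁.iso.hom ≫ e₂.iso.inv = _ ≫ (e₂.symm.baseChange p).iso.hom ≫ _
      rw [baseChange_hom_fst, ← Category.assoc, ← baseChange_hom_fst e₁ p, Category.assoc]
      rfl
    · rw [Category.assoc]
      show _ = _ ≫ (e₂.symm.baseChange p).iso.hom ≫ _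
      exact ((e₁.trans e₂.symm).baseChange p).hom_f.trans
        ((congrArg ((e₁.baseChange p).iso.hom ≫ ·) (e₂.symm.baseChange p).hom_f).trans (e₁.baseChange p).hom_f).symm
  rw [h3, Iso.comp_inv_eq, h2, Iso.hom_inv_id_assoc]

end Groth.Agent.H28Def
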