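import Groth.Agent.H24Art.Double

/-!
Adjusting a lift of a morphism by a tangent vector, for an element versal for small prolongations
of the base point.
-/

universe u v

open CategoryTheory

namespace Groth.Agent.H28Def

open ArtFun ArtFun.Art IsLocalRing H24Art

variable {Λ : Type u} {k : Type u} [CommRing Λ] [Field k] [Algebra Λ k]

theorem isSmallExt_toBase_dual : IsSmallExt (toBase (dual Λ k)) := by
  let ε : (dual Λ k : Type u) := (DualNumber.eps : DualNumber k)
  have hker : RingHom.ker (toBase (dual Λ k)).toAlgHom = Ideal.span {ε} := by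
    refine le_antisymm (fun x hx => ?_) ?_
    · refine Ideal.mem_span_singleton'.mpr ⟨(TrivSqZeroExt.inl (TrivSqZeroExt.snd x) : DualNumber k), ?_⟩
      have h0 : TrivSqZeroExt.fst (R := k) (M := k) x = 0 := hx
      have key : ∀ y : DualNumber k, y.fst = 0 →
          (TrivSqZeroExt.inl y.snd : DualNumber k) * DualNumber.eps = y := fun y hy => by
        ext
        · simp [hy]
        · simp
      exact key x h0
    · refine (Ideal.span_singleton_le_iff_mem _).mpr ?_
      exact DualNumber.fst_eps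
  refine ⟨(dual Λ k).res_surjective, ?_, ⟨⟨_, hker⟩⟩, ?_⟩
  · rw [hker]
    intro h
    replace h : (DualNumber.eps : DualNumber k) = 0 := Ideal.span_singleton_eq_bot.mp h
    exact zero_ne_one (α := k) (by simpa using (congrArg TrivSqZeroExt.snd h).symm)
  · rw [eq_bot_iff, Ideal.mul_le]
    intro a ha b hb
    have ha0 : TrivSqZeroExt.fst (R := k) (M := k) a = 0 :=
      ((dual Λ k).mem_maximalIdeal_iff a).mp ha
    have hb0 : TrivSqZeroExt.fst (R := k) (M := k) b = 0 := hb
    refine (TrivSqZeroExt.ext (R := k) (M := k) ?_ ?_ : a * b = 0)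
    · change TrivSqZeroExt.fst ((show DualNumber k from a) * (show DualNumber k from b)) = 0
      rw [TrivSqZeroExt.fst_mul]
      exact mul_eq_zero_of_left ha0 _
    · change TrivSqZeroExt.snd ((show DualNumber k from a) * (show DualNumber k from b)) = 0
      rw [TrivSqZeroExt.snd_mul]
      change TrivSqZeroExt.fst (R := k) (M := k) a • TrivSqZeroExt.snd (R := k) (M := k) b +
        MulOpposite.op (TrivSqZeroExt.fst (R := k) (M := k) b) • TrivSqZeroExt.snd (R := k) (M := k) a = 0
      rw [ha0, hb0]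
      simp

/-- If some lift of `g` to the small extension `R₁` exists, then one exists with prescribed image. -/
theorem exists_adjust_hom [IsNoetherianRing Λ] [Module.Finite Λ k] {F : Art Λ k ⥤ Type v}
    (h1 : S1 F) (h2 : Heps F) {R R₁ R' : Art Λ k} {π₁ : R₁ ⟶ R} (hπ : IsSmallExt π₁) (g : R' ⟶ R)
    (a : F.obj R) (a₁ : F.obj R₁) (a' : F.obj R') (h₁ : F.map π₁ a₁ = a) (h' : F.map g a' = a)
    (hvers : ∀ θ : F.obj (dual Λ k), ∃ φ : R ⟶ dual Λ k, F.map φ a = θ)
    (f : R' ⟶ R₁) (hf : f ≫ π₁ = g) :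
    ∃ f' : R' ⟶ R₁, f' ≫ π₁ = g ∧ F.map f' a' = a₁ := by
  obtain ⟨P, p₁, p₂, gd, d, hP, hPg, -, -, -⟩ := exists_double hπ
  obtain ⟨w, hw⟩ := h1 p₁ p₂ π₁ π₁ hP hπ.1 ⟨(F.map f a', a₁), by
    rw [← map_comp_apply', hf, h', h₁]⟩
  have hw₁ : F.map p₁ w = F.map f a' := congrArg (fun z => z.1.1) hw
  have hw₂ : F.map p₂ w = a₁ := congrArg (fun z => z.1.2) hw
  obtain ⟨φ, hφ⟩ := hvers (F.map gd w)
  obtain ⟨v, hv₁, hv₂⟩ := IsFibreProd.exists_lift hPg f (g ≫ φ)
    ((eq_toBase _).trans (eq_toBase _).symm)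
  have hvw : F.map v a' = w := (h2 p₁ gd hPg).injective (FibProd.ext
    (by change F.map p₁ (F.map v a') = F.map p₁ w
        rw [← map_comp_apply', hv₁, hw₁])
    (by change F.map gd (F.map v a') = F.map gd w
        rw [← map_comp_apply', hv₂, map_comp_apply', h', hφ]))
  refine ⟨v ≫ p₂, ?_, ?_⟩
  · rw [Category.assoc, ← hP.w, ← Category.assoc, hv₁, hf]
  · rw [map_comp_apply', hvw, hw₂]

end Groth.Agent.H28Def
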