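import Groth.Agent.H28Def.FibreProd
import Groth.Agent.H7Flat.PushoutRing
import Mathlib

/-!
# Gluing flat algebras over a fibre product of Artinian local rings
-/

set_option autoImplicit false
set_option linter.style.haveILetI false
universe u
open CategoryTheory CategoryTheory.Limits

namespace Groth.Agent.H28Def

set_option maxHeartbeats 1000000 in
/-- The fibre product of flat algebras is flat and restricts to the factors. -/
theorem glue_rings {B A' A'' A V U W R : Type u} [CommRing B] [CommRing A'] [CommRing A''] [CommRing A]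
    [CommRing V] [CommRing U] [CommRing W] [CommRing R] [IsLocalRing A'] [IsArtinianRing A'] [IsLocalRing A'']
    [IsArtinianRing A''] [Nontrivial A] (p' : B →+* A') (p'' : B →+* A'') (f' : A' →+* A) (f'' : A'' →+* A)
    (hw : ∀ b, f' (p' b) = f'' (p'' b)) (hs : Function.Surjective f'')
    (hinj : ∀ b₁ b₂, p' b₁ = p' b₂ → p'' b₁ = p'' b₂ → b₁ = b₂)
    (hsurj : ∀ a' a'', f' a' = f'' a'' → ∃ b, p' b = a' ∧ p'' b = a'')
    (s' : A' →+* V) (s'' : A'' →+* U) (s : A →+* W) (pp : U →+* W) (qq : V →+* W)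
    (hV : s'.Flat) (hU : s''.Flat)
    (P' : IsPushout (CommRingCat.ofHom f') (CommRingCat.ofHom s') (CommRingCat.ofHom s) (CommRingCat.ofHom qq))
    (P'' : IsPushout (CommRingCat.ofHom f'') (CommRingCat.ofHom s'') (CommRingCat.ofHom s) (CommRingCat.ofHom pp))
    {pa : R →+* U} {pb : R →+* V} (hR : H7Flat.RingSq pa pb pp qq) (σ : B →+* R)
    (ha : ∀ b, pa (σ b) = s'' (p'' b)) (hb : ∀ b, pb (σ b) = s' (p' b)) :
    σ.Flat ∧ IsPushout (CommRingCat.ofHom p') (CommRingCat.ofHom σ) (CommRingCat.ofHom s') (CommRingCat.ofHom pb) ∧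
      IsPushout (CommRingCat.ofHom p'') (CommRingCat.ofHom σ) (CommRingCat.ofHom s'') (CommRingCat.ofHom pa) := by
  have w' : ∀ a, s (f' a) = qq (s' a) := fun a => ConcreteCategory.congr_hom P'.w a
  have w'' : ∀ a, s (f'' a) = pp (s'' a) := fun a => ConcreteCategory.congr_hom P''.w a
  letI := p'.toAlgebra
  letI := p''.toAlgebra
  letI := f'.toAlgebra
  letI := f''.toAlgebra
  letI : Algebra B A := (f'.comp p').toAlgebra
  haveI : IsScalarTower B A' A := IsScalarTower.of_algebraMap_eq fun _ => rfl
  haveI : IsScalarTower B A'' A := IsScalarTower.of_algebraMap_eq fun b => hw b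
  letI := s'.toAlgebra
  letI := s''.toAlgebra
  letI := s.toAlgebra
  letI := pp.toAlgebra
  letI := qq.toAlgebra
  letI := σ.toAlgebra
  letI := pa.toAlgebra
  letI := pb.toAlgebra
  letI : Algebra B V := (s'.comp p').toAlgebra
  letI : Algebra B U := (s''.comp p'').toAlgebra
  haveI : IsScalarTower B A' V := IsScalarTower.of_algebraMap_eq fun _ => rfl
  haveI : IsScalarTower B A'' U := IsScalarTower.of_algebraMap_eq fun _ => rfl
  haveI : IsScalarTower B R V := IsScalarTower.of_algebraMap_eq fun b => (hb b).symm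
  haveI : IsScalarTower B R U := IsScalarTower.of_algebraMap_eq fun b => (ha b).symm
  letI : Algebra A' W := (s.comp f').toAlgebra
  letI : Algebra A'' W := (s.comp f'').toAlgebra
  haveI : IsScalarTower A' A W := IsScalarTower.of_algebraMap_eq fun _ => rfl
  haveI : IsScalarTower A'' A W := IsScalarTower.of_algebraMap_eq fun _ => rfl
  haveI : IsScalarTower A' V W := IsScalarTower.of_algebraMap_eq fun a => w' a
  haveI : IsScalarTower A'' U W := IsScalarTower.of_algebraMap_eq fun a => w'' a
  haveI : Module.Flat A' V := hV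
  haveI : Module.Flat A'' U := hU
  haveI hA' : Algebra.IsPushout A' A V W := CommRingCat.isPushout_iff_isPushout.mp P'
  haveI hA'' : Algebra.IsPushout A'' A U W := CommRingCat.isPushout_iff_isPushout.mp P''
  obtain ⟨h1, h2, h3⟩ := fibreProd_isBaseChange (B := B) (A' := A') (A'' := A'') (A := A)
    (RingHom.ker_ne_top _) hs hinj hsurj
    (IsScalarTower.toAlgHom A' V W).toLinearMap hA'.out (IsScalarTower.toAlgHom A'' U W).toLinearMap hA''.out
    (IsScalarTower.toAlgHom B R V).toLinearMap (IsScalarTower.toAlgHom B R U).toLinearMap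
    (fun n => (hR.comm n).symm) (fun n₁ n₂ e e' => hR.ext n₁ n₂ e' e) (fun n' n'' e => by
      obtain ⟨z, hz, hz'⟩ := hR.exists_lift n'' n' e.symm
      exact ⟨z, hz', hz⟩)
  haveI : Algebra.IsPushout B A' R V := ⟨h2⟩
  haveI : Algebra.IsPushout B A'' R U := ⟨h3⟩
  exact ⟨h1, CommRingCat.isPushout_of_isPushout B A' R V, CommRingCat.isPushout_of_isPushout B A'' R U⟩

end Groth.Agent.H28Def
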