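import Groth.Agent.H28Def.DefHom
import Groth.Agent.H28Def.GlueRings
import Groth.Agent.H7Flat.PushoutCartesian
import Mathlib

/-!
# Gluing deformations over a fibre product
-/

set_option autoImplicit false
set_option linter.style.haveILetI false
universe u
open CategoryTheory CategoryTheory.Limits AlgebraicGeometry IsLocalRing ArtFun ArtFun.Art

namespace Groth.Agent.H28Def

variable {Λ k : Type u} [CommRing Λ] [Field k] [Algebra Λ k] {X : Scheme.{u}} {x : X ⟶ specPt k}

/-- A deformation sitting in a cartesian square is the base change. -/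
noncomputable def isoOfIsPullback {A B : Art Λ k} {g : A ⟶ B} (η : DefSch X x A) (ξ : DefSch X x B)
    (a : ξ.total ⟶ η.total) (h : IsPullback a ξ.f η.f (specMap g)) (hi : ξ.i ≫ a = η.i) :
    DefSch.Iso (η.baseChange g) ξ where
  iso := (IsPullback.of_hasPullback η.f (specMap g)).isoIsPullback _ _ h
  hom_f := IsPullback.isoIsPullback_hom_snd _ _ _ _
  i_hom := by
    refine h.hom_ext ?_ ?_
    · rw [Category.assoc, IsPullback.isoIsPullback_hom_fst]
      exact (DefSch.baseChange_i_fst _ g).trans hi.symm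
    · rw [Category.assoc, IsPullback.isoIsPullback_hom_snd]
      exact (DefSch.baseChange_i_f _ g).trans ξ.i_f.symm

theorem surjective_specMap {A B : Art Λ k} (g : A ⟶ B) : Surjective (specMap g) := ⟨fun p => by
  haveI : Subsingleton (PrimeSpectrum A) := inferInstance
  exact ⟨(default : PrimeSpectrum B), Subsingleton.elim (α := PrimeSpectrum A) _ p⟩⟩

theorem hom_toRingHom_surj {A B : Art Λ k} (g : A ⟶ B) (hg : Function.Surjective g) :
    IsClosedImmersion (specMap g) := IsClosedImmersion.spec_of_surjective _ hg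

variable {B A A' A'' : Art Λ k} {p' : B ⟶ A'} {p'' : B ⟶ A''} {f' : A' ⟶ A} {f'' : A'' ⟶ A}

set_option maxHeartbeats 1000000 in
/-- Deformations over the factors with a common restriction glue to the fibre product. -/
theorem exists_glue (h : IsFibreProd p' p'' f' f'') (hs : Function.Surjective f'')
    (ξ : DefSch X x A) (ξ' : DefSch X x A') (ξ'' : DefSch X x A'')
    (i : ξ.total ⟶ ξ''.total) (j : ξ.total ⟶ ξ'.total)
    (hi : IsPullback i ξ.f ξ''.f (specMap f'')) (hj : IsPullback j ξ.f ξ'.f (specMap f'))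
    (hii : ξ.i ≫ i = ξ''.i) (hij : ξ.i ≫ j = ξ'.i) :
    ∃ (η : DefSch X x B) (a : ξ'.total ⟶ η.total) (b : ξ''.total ⟶ η.total), IsPushout i j b a ∧
      IsPullback a ξ'.f η.f (specMap p') ∧ IsPullback b ξ''.f η.f (specMap p'') ∧
      ξ'.i ≫ a = η.i ∧ ξ''.i ≫ b = η.i := by
  haveI hci : IsClosedImmersion i :=
    MorphismProperty.of_isPullback (P := @IsClosedImmersion) hi.flip (hom_toRingHom_surj f'' hs)
  have hsurj : Function.Surjective i :=
    (MorphismProperty.of_isPullback (P := @Surjective) hi.flip (surjective_specMap f'')).surj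
  haveI : IsAffineHom j := MorphismProperty.of_isPullback (P := @IsAffineHom) hj.flip inferInstance
  have hcov : ∀ y : ξ'.total, ∃ π : H7Flat.AP i j, y ∈ π.V := fun y => by
    obtain ⟨V, hV, hyV, -⟩ := exists_isAffineOpen_mem_and_subset (Set.mem_univ y) (U := (⊤ : ξ'.total.Opens))
    obtain ⟨O, hO, hOV⟩ := i.isClosedEmbedding.isInducing.isOpen_iff.1 (j ⁻¹ᵁ V).2
    let U : ξ''.total.Opens := ⟨O, hO⟩
    have hpre : i ⁻¹ᵁ U = j ⁻¹ᵁ V := TopologicalSpace.Opens.ext hOV
    haveI : IsAffine (i ⁻¹ᵁ U).toScheme := hpre ▸ hV.preimage j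
    haveI : IsClosedImmersion (i ∣_ U) := IsZariskiLocalAtTarget.restrict (P := @IsClosedImmersion) inferInstance U
    have hU : IsAffineOpen U := H7Lim.isAffine_of_surjective_closedImmersion (i ∣_ U) fun z => by
      obtain ⟨w, hw⟩ := hsurj z.1
      refine ⟨⟨w, show i w ∈ U by rw [hw]; exact z.2⟩, Subtype.ext ?_⟩
      rw [morphismRestrict_base]
      exact hw
    exact ⟨⟨U, V, hU, hV, hpre⟩, hyV⟩
  have hpo := H7Flat.glued_isPushout hcov
  have hwsp : specMap f'' ≫ specMap p'' = specMap f' ≫ specMap p' := by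
    rw [← Art.specMap_comp, ← Art.specMap_comp, h.w]
  let F : H7Flat.glued i j ⟶ spec B := hpo.desc (ξ''.f ≫ specMap p'') (ξ'.f ≫ specMap p') (by
    rw [← Category.assoc, hi.w, ← Category.assoc, hj.w, Category.assoc, Category.assoc, hwsp])
  have hFb : H7Flat.inX hcov ≫ F = ξ''.f ≫ specMap p'' := hpo.inl_desc _ _ _
  have hFa : H7Flat.inY hcov ≫ F = ξ'.f ≫ specMap p' := hpo.inr_desc _ _ _
  have key : ∀ π : H7Flat.AP i j, ∃ σ : B →+* π.R,
      H7Flat.chart i j π ≫ F = Spec.map (CommRingCat.ofHom σ) ∧ σ.Flat ∧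
      IsPullback (Spec.map (CommRingCat.ofHom π.pb)) (π.hV.fromSpec ≫ ξ'.f) (H7Flat.chart i j π ≫ F) (specMap p') ∧
      IsPullback (Spec.map (CommRingCat.ofHom π.pa)) (π.hU.fromSpec ≫ ξ''.f) (H7Flat.chart i j π ≫ F) (specMap p'') := by
    intro π
    let s'' := H24Def.scalar ξ''.f π.U
    let s' := H24Def.scalar ξ'.f π.V
    let s := H24Def.scalar ξ.f π.W
    have hpp : ∀ c, π.p (s'' c) = s (f'' c) := fun c =>
      appLE_scalar f''.toAlgHom.toRingHom i ξ.f ξ''.f hi.w π.U π.W le_rfl c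
    have hqq : ∀ c, π.q (s' c) = s (f' c) := fun c =>
      appLE_scalar f'.toAlgHom.toRingHom j ξ.f ξ'.f hj.w π.V π.W π.W_le c
    let σ : B →+* π.R :=
      RingHom.codRestrict ((s''.comp p''.toAlgHom.toRingHom).prod (s'.comp p'.toAlgHom.toRingHom)) π.R fun b => by
        show π.p (s'' (p'' b)) = π.q (s' (p' b))
        rw [hpp, hqq, ← h.w_apply b]
    have P'' := isPushout_scalar f''.toAlgHom.toRingHom i ξ.f ξ''.f hi π.hU π.W rfl
    have P' := isPushout_scalar f'.toAlgHom.toRingHom j ξ.f ξ'.f hj π.hV π.W π.hUV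
    obtain ⟨hfl, hP1, hP2⟩ := glue_rings p'.toAlgHom.toRingHom p''.toAlgHom.toRingHom f'.toAlgHom.toRingHom
      f''.toAlgHom.toRingHom h.w_apply hs h.inj h.surj s' s'' s π.p π.q (H24Def.flat_scalar ξ'.f π.hV)
      (H24Def.flat_scalar ξ''.f π.hU) P' P'' π.ringSq σ (fun _ => rfl) (fun _ => rfl)
    have hσ : H7Flat.chart i j π ≫ F = Spec.map (CommRingCat.ofHom σ) := by
      refine π.ringSq.hom_ext ?_ ?_
      · rw [← Category.assoc, ← H7Flat.fromSpec_inX hcov, Category.assoc, hFb, ← Category.assoc, fromSpec_comp _ π.hU]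
        show Spec.map _ ≫ Spec.map _ = Spec.map _ ≫ Spec.map _
        rw [← Spec.map_comp, ← Spec.map_comp, ← CommRingCat.ofHom_comp, ← CommRingCat.ofHom_comp]
        rfl
      · rw [← Category.assoc, ← H7Flat.fromSpec_inY hcov, Category.assoc, hFa, ← Category.assoc, fromSpec_comp _ π.hV]
        show Spec.map _ ≫ Spec.map _ = Spec.map _ ≫ Spec.map _
        rw [← Spec.map_comp, ← Spec.map_comp, ← CommRingCat.ofHom_comp, ← CommRingCat.ofHom_comp]
        rfl
    refine ⟨σ, hσ, hfl, ?_, ?_⟩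
    · rw [hσ, fromSpec_comp _ π.hV]
      exact isPullback_SpecMap_of_isPushout _ _ _ _ hP1.flip
    · rw [hσ, fromSpec_comp _ π.hU]
      exact isPullback_SpecMap_of_isPushout _ _ _ _ hP2.flip
  let 𝒰 : (H7Flat.glued i j).OpenCover :=
    Scheme.Cover.mkOfCovers (H7Flat.AP i j) (fun π => Spec (CommRingCat.of π.R)) (H7Flat.chart i j)
      (fun y => H7Flat.chart_jointly_surjective i j y) inferInstance
  haveI : IsZariskiLocalAtSource (@AlgebraicGeometry.Flat : MorphismProperty Scheme.{u}) :=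
    HasRingHomProperty.instIsZariskiLocalAtSource (Q := RingHom.Flat)
  haveI hFflat : Flat F := (IsZariskiLocalAtSource.iff_of_openCover (P := @AlgebraicGeometry.Flat) 𝒰).mpr fun π => by
    obtain ⟨σ, hσ, hfl, -, -⟩ := key π
    show Flat (H7Flat.chart i j π ≫ F)
    rw [hσ]
    exact (HasRingHomProperty.Spec_iff (P := @Flat)).mpr hfl
  have hglob : ∀ {S T : Scheme.{u}} (a : S ⟶ H7Flat.glued i j) (g : S ⟶ T) (m : T ⟶ spec B),
      (∀ π, ∃ (O : Scheme.{u}) (o : O ⟶ S) (r : O ⟶ Spec (CommRingCat.of π.R)),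
        IsPullback r o (H7Flat.chart i j π) a ∧ IsPullback r (o ≫ g) (H7Flat.chart i j π ≫ F) m) →
      IsPullback a g F m := by
    intro S T a g m H
    refine Scheme.isPullback_of_openCover a g F m 𝒰 fun π => ?_
    obtain ⟨O, o, r, h1, h2⟩ := H π
    let e := h1.flip.isoPullback
    refine h2.of_iso e (Iso.refl _) (Iso.refl _) (Iso.refl _)
      ?_ ?_ ?_ (by simp)
    · show r ≫ 𝟙 _ = e.hom ≫ pullback.snd a (H7Flat.chart i j π)
      rw [Category.comp_id]
      exact h1.flip.isoPullback_hom_snd.symm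
    · show (o ≫ g) ≫ 𝟙 _ = e.hom ≫ pullback.fst a (H7Flat.chart i j π) ≫ g
      rw [Category.comp_id, ← Category.assoc]
      exact congrArg (· ≫ g) h1.flip.isoPullback_hom_fst.symm
    · show (H7Flat.chart i j π ≫ F) ≫ 𝟙 _ = 𝟙 _ ≫ H7Flat.chart i j π ≫ F
      rw [Category.comp_id, Category.id_comp]
  have hb : IsPullback (H7Flat.inX hcov) ξ''.f F (specMap p'') := hglob _ _ _ fun π => by
    obtain ⟨σ, -, -, -, hp⟩ := key π
    exact ⟨_, π.hU.fromSpec, _, IsOpenImmersion.isPullback _ _ _ _ (H7Flat.fromSpec_inX hcov π)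
      (H7Flat.inX_preimage hcov π), hp⟩
  have ha : IsPullback (H7Flat.inY hcov) ξ'.f F (specMap p') := hglob _ _ _ fun π => by
    obtain ⟨σ, -, -, hp, -⟩ := key π
    exact ⟨_, π.hV.fromSpec, _, IsOpenImmersion.isPullback _ _ _ _ (H7Flat.fromSpec_inY hcov π)
      (H7Flat.inY_preimage hcov π), hp⟩
  let η : DefSch X x B :=
    { total := H7Flat.glued i j
      f := F
      flat := hFflat
      i := ξ''.i ≫ H7Flat.inX hcov
      isPullback := by
        have := ξ''.isPullback.paste_horiz hb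
        rwa [Art.specRes_comp] at this }
  refine ⟨η, H7Flat.inY hcov, H7Flat.inX hcov, hpo, ha, hb, ?_, rfl⟩
  show ξ'.i ≫ _ = ξ''.i ≫ _
  rw [← hij, ← hii, Category.assoc, Category.assoc, H7Flat.inX_comm]

end Groth.Agent.H28Def
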