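import Groth.Agent.H28Def.Split
import Groth.Agent.H24Def.BurchLift
import Groth.Agent.H29Slice.KoszulReg
import Groth.Prelude.Def_LCI2
import Mathlib

/-!
# A flat deformation of a Koszul-regular ideal is locally cut out by lifts with trivial relations
-/

set_option autoImplicit false
set_option linter.style.haveILetI false
universe u
open IsLocalRing

namespace Groth.Agent.H28Def

/-- `H₁`-regularity is insensitive to unit factors. -/
lemma isH1Regular_units_mul {R : Type u} [CommRing R] {c : ℕ} {f : Fin c → R} (h : CAlgX.IsH1Regular f)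
    (u : Fin c → Rˣ) : CAlgX.IsH1Regular fun i => (u i : R) * f i := by
  classical
  intro a ha
  let D : (Fin c → R) →ₗ[R] (Fin c → R) := LinearMap.pi fun i => (↑(u i)⁻¹ : R) • LinearMap.proj i
  have hD : ∀ v i, D v i = (↑(u i)⁻¹ : R) * v i := fun v i => rfl
  have ha' : (fun i => a i * (u i : R)) ∈ Submodule.span R
      {v : Fin c → R | ∃ i j : Fin c, v = Pi.single i (f j) - Pi.single j (f i)} :=
    h _ (by rw [← ha]; exact Finset.sum_congr rfl fun i _ => mul_assoc _ _ _)
  have hle : (Submodule.span R {v : Fin c → R | ∃ i j : Fin c, v = Pi.single i (f j) - Pi.single j (f i)}).map D ≤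
      Submodule.span R {v : Fin c → R | ∃ i j : Fin c,
        v = Pi.single i ((u j : R) * f j) - Pi.single j ((u i : R) * f i)} := by
    rw [Submodule.map_span, Submodule.span_le]
    rintro _ ⟨_, ⟨i, j, rfl⟩, rfl⟩
    rcases eq_or_ne i j with rfl | hij
    · simp
    have : D (Pi.single i (f j) - Pi.single j (f i)) = ((↑(u i)⁻¹ : R) * ↑(u j)⁻¹) •
        (Pi.single i ((u j : R) * f j) - Pi.single j ((u i : R) * f i)) := by
      funext k
      rw [hD]
      simp only [Pi.sub_apply, Pi.smul_apply, smul_eq_mul]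
      rcases eq_or_ne k i with rfl | hki
      · rw [Pi.single_eq_same, Pi.single_eq_of_ne hij, Pi.single_eq_same, Pi.single_eq_of_ne hij, sub_zero,
          sub_zero, mul_assoc, Units.inv_mul_cancel_left]
      · rcases eq_or_ne k j with rfl | hkj
        · rw [Pi.single_eq_of_ne hij.symm, Pi.single_eq_same, Pi.single_eq_of_ne hij.symm, Pi.single_eq_same,
            zero_sub, zero_sub, mul_neg, mul_neg, mul_comm (↑(u i)⁻¹ : R), mul_assoc, Units.inv_mul_cancel_left]
        · simp [hki, hkj]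
    rw [this]
    exact Submodule.smul_mem _ _ (Submodule.subset_span ⟨i, j, rfl⟩)
  have := hle (Submodule.mem_map_of_mem ha')
  convert this using 1
  funext i
  rw [hD, mul_left_comm, Units.inv_mul, mul_one]


variable {C A : Type u} [CommRing C] [IsLocalRing C] [IsArtinianRing C] [CommRing A] [Algebra C A]
  [Module.Flat C A]

lemma flat_ideal {L : Type u} [CommRing L] [Algebra C L] [Module.Flat C L] (IL : Ideal L) [Module.Flat C (L ⧸ IL)] :
    Module.Flat C IL := by
  haveI := H24Def.flat_ker (C := C) ((Submodule.mkQ IL).restrictScalars C) (Submodule.mkQ_surjective _)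
  exact Module.Flat.of_linearEquiv ((LinearEquiv.ofEq (LinearMap.ker ((Submodule.mkQ IL).restrictScalars C))
    (IL.restrictScalars C) (by ext z; simp)).symm)

/-- Lifts of `H₁`-regular generators modulo the nilpotent maximal ideal generate and have trivial relations. -/
lemma span_eq_and_ker_le {L L₀ : Type u} [CommRing L] [CommRing L₀] [Algebra C L] [Module.Flat C L] (IL : Ideal L)
    [Module.Flat C (L ⧸ IL)] (π : L →+* L₀) (hπs : Function.Surjective π)
    (hπker : ∀ z, π z = 0 → z ∈ (maximalIdeal C).map (algebraMap C L)) {c : ℕ} (F : Fin c → L) (hF : ∀ i, F i ∈ IL)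
    (hgen : IL.map π ≤ Ideal.span (Set.range (π ∘ F))) (hreg : CAlgX.IsH1Regular (π ∘ F)) :
    IL ≤ Ideal.span (Set.range F) ∧ ∀ v : Fin c → L, ∑ i, v i * F i = 0 → v ∈ kos F := by
  classical
  let m := maximalIdeal C
  let KL : Ideal L := m.map (algebraMap C L)
  obtain ⟨n, hn⟩ := (isArtinianRing_iff_isNilpotent_maximalIdeal C).1 inferInstance
  have hKLn : IsNilpotent KL := ⟨n, by rw [← Ideal.map_pow, hn, Ideal.zero_eq_bot, Ideal.map_bot]; rfl⟩
  let σ : (Fin c → L) →ₗ[L] L := Fintype.linearCombination L F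
  have hσ : ∀ v, σ v = ∑ i, v i * F i := fun v => by simp [σ, Fintype.linearCombination_apply]
  have hle : IL ≤ Ideal.span (Set.range F) := by
    refine H24Def.le_of_le_sup_smul hKLn fun x hx => ?_
    have h1 : π x ∈ (Ideal.span (Set.range F)).map π := by
      rw [Ideal.map_span, ← Set.range_comp]
      exact hgen (Ideal.mem_map_of_mem π hx)
    obtain ⟨w, hw, hwx⟩ := (Ideal.mem_map_iff_of_surjective π hπs).1 h1
    have hwI : w ∈ IL := Ideal.span_le.2 (Set.range_subset_iff.2 hF) hw
    have hd : x - w ∈ KL • (IL : Submodule L L) := by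
      have h3 := H24Def.mem_smul_ker (C := C) (A := L) (M := L) (P := L ⧸ IL) m (Submodule.mkQ IL)
        (Submodule.mkQ_surjective _) (x := x - w)
        (by rw [smul_eq_mul, Ideal.mul_top]; exact hπker _ (by rw [map_sub, hwx, sub_self]))
        ((Submodule.Quotient.mk_eq_zero _).2 (sub_mem hx hwI))
      rwa [Submodule.ker_mkQ] at h3
    exact Submodule.mem_sup.2 ⟨w, hw, x - w, hd, add_sub_cancel w x⟩
  have hσrange : LinearMap.range σ = IL := by
    rw [Fintype.range_linearCombination]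
    exact le_antisymm (Ideal.span_le.2 (Set.range_subset_iff.2 hF)) hle
  refine ⟨hle, ?_⟩
  let σ' : (Fin c → L) →ₗ[L] IL := σ.codRestrict IL fun v => hσrange.le ⟨v, rfl⟩
  have hσ's : Function.Surjective σ' := fun z => by
    obtain ⟨v, hv⟩ := hσrange.ge z.2
    exact ⟨v, Subtype.ext hv⟩
  haveI : Module.Flat C IL := flat_ideal IL
  have hkosσ : kos F ≤ LinearMap.ker σ' := by
    refine Submodule.span_le.2 ?_
    rintro _ ⟨i, j, rfl⟩
    refine LinearMap.mem_ker.2 (Subtype.ext ?_)
    show σ (Pi.single i (F j) - Pi.single j (F i)) = 0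
    rw [map_sub, linearCombination_single, linearCombination_single, smul_eq_mul, smul_eq_mul, mul_comm, sub_self]
  have hker : LinearMap.ker σ' ≤ kos F := by
    refine H24Def.le_of_le_sup_smul hKLn fun v hv => ?_
    have h1 : (fun i => π (v i)) ∈ kos (π ∘ F) := by
      refine hreg _ ?_
      have h0 : σ v = 0 := congrArg Subtype.val (LinearMap.mem_ker.1 hv)
      rw [← map_zero π, ← h0, hσ, map_sum]
      simp
    obtain ⟨κ, hκ, hκv⟩ : ∃ κ ∈ kos F, (fun i => π (κ i)) = fun i => π (v i) := by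
      refine Submodule.span_induction ?_ ?_ ?_ ?_ h1
      · rintro _ ⟨i, j, rfl⟩
        refine ⟨Pi.single i (F j) - Pi.single j (F i), Submodule.subset_span ⟨i, j, rfl⟩, funext fun k => ?_⟩
        simp only [Pi.sub_apply, map_sub, Pi.single_apply, apply_ite π, map_zero, Function.comp_apply]
      · exact ⟨0, zero_mem _, funext fun k => map_zero π⟩
      · rintro _ _ _ _ ⟨a, ha, rfl⟩ ⟨b, hb, rfl⟩
        exact ⟨a + b, add_mem ha hb, funext fun k => map_add π _ _⟩
      · rintro r _ _ ⟨a, ha, rfl⟩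
        obtain ⟨r', rfl⟩ := hπs r
        exact ⟨r' • a, Submodule.smul_mem _ _ ha, funext fun k => map_mul π _ _⟩
    have hb : v - κ ∈ KL • LinearMap.ker σ' := by
      refine H24Def.mem_smul_ker (C := C) (A := L) m σ' hσ's ?_ ?_
      · rw [H24Def.mem_smul_top_pi_iff]
        intro i
        exact hπker _ (by rw [Pi.sub_apply, map_sub, congrFun hκv i, sub_self])
      · rw [map_sub, LinearMap.mem_ker.1 hv, LinearMap.mem_ker.1 (hkosσ hκ), sub_zero]
    exact Submodule.mem_sup.2 ⟨κ, hκ, v - κ, hb, add_sub_cancel κ v⟩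
  intro v hv
  exact hker (LinearMap.mem_ker.2 (Subtype.ext (show σ v = 0 by rw [hσ, hv])))

set_option maxHeartbeats 1000000 in
/-- Local equations with trivial relations. -/
theorem exists_local_equations (I : Ideal A) [Module.Flat C (A ⧸ I)] {A₀ : Type u} [CommRing A₀] (q : A →+* A₀)
    (hq : Function.Surjective q) (hqk : RingHom.ker q = (maximalIdeal C).map (algebraMap C A))
    (hI0 : LCI.IsKoszulRegularIdeal (I.map q))
    (𝔭 : Ideal A) [𝔭.IsMaximal] (hI : I ≤ 𝔭) :
    ∃ g ∉ 𝔭, ∃ (c : ℕ) (f : Fin c → A), (∀ i, f i ∈ I) ∧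
      (∀ x ∈ I, ∃ N, g ^ N * x ∈ Ideal.span (Set.range f)) ∧
      ∀ a : Fin c → A, ∑ i, a i * f i = 0 → ∃ N, g ^ N • a ∈ kos f := by
  classical
  let m := maximalIdeal C
  let K : Ideal A := m.map (algebraMap C A)
  obtain ⟨n, hn⟩ := (isArtinianRing_iff_isNilpotent_maximalIdeal C).1 inferInstance
  have hK : IsNilpotent K := ⟨n, by rw [← Ideal.map_pow, hn, Ideal.zero_eq_bot, Ideal.map_bot]; rfl⟩
  have hK𝔭 : K ≤ 𝔭 := fun x hx => by
    obtain ⟨n, hn⟩ := hK
    refine Ideal.IsPrime.mem_of_pow_mem inferInstance n ?_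
    have := Ideal.pow_mem_pow hx n
    rw [hn] at this
    rw [show x ^ n = 0 from this]
    exact zero_mem _
  haveI h𝔭₀ : (𝔭.map q).IsPrime := Ideal.map_isPrime_of_surjective hq (by rwa [hqk])
  obtain ⟨g₀, hg₀, l, hl, hspan⟩ := hI0 ⟨𝔭.map q, h𝔭₀⟩ (Ideal.map_mono hI)
  obtain ⟨g, rfl⟩ := hq g₀
  refine ⟨g, fun h => hg₀ (Ideal.mem_map_of_mem q h), ?_⟩
  let L := Localization.Away g
  let L₀ := Localization.Away (q g)
  let ι : A →+* L := algebraMap A L
  let π : L →+* L₀ := IsLocalization.Away.map L L₀ q g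
  have hπι : ∀ a, π (ι a) = algebraMap A₀ L₀ (q a) := fun a => IsLocalization.map_eq _ a
  have hgu : IsUnit (ι g) := IsLocalization.Away.algebraMap_isUnit g
  have hπs : Function.Surjective π := by
    intro z
    obtain ⟨n, a, ha⟩ := IsLocalization.Away.surj (q g) z
    obtain ⟨a', rfl⟩ := hq a
    refine ⟨ι a' * ↑(hgu.pow n).unit⁻¹, ?_⟩
    have hu : IsUnit (algebraMap A₀ L₀ (q g) ^ n) := (IsLocalization.Away.algebraMap_isUnit (q g)).pow n
    refine hu.mul_left_injective ?_
    show π _ * _ = z * _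
    rw [ha, map_mul, hπι, mul_assoc, ← hπι g, show (π (ι g)) ^ n = π (ι g ^ n) from (map_pow π _ _).symm,
      ← π.map_mul (↑(hgu.pow n).unit⁻¹) (ι g ^ n), IsUnit.val_inv_mul, map_one, mul_one]
  have hπker : ∀ z, π z = 0 → z ∈ K.map ι := by
    intro z hz
    obtain ⟨n, a, ha⟩ := IsLocalization.Away.surj g z
    have h0 : algebraMap A₀ L₀ (q a) = 0 := by rw [← hπι, ← ha, map_mul, hz, zero_mul]
    obtain ⟨⟨_, k, rfl⟩, hk⟩ := (IsLocalization.map_eq_zero_iff (Submonoid.powers (q g)) L₀ _).1 h0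
    have hk' : g ^ k * a ∈ K := by
      show g ^ k * a ∈ (maximalIdeal C).map (algebraMap C A)
      rw [← hqk, RingHom.mem_ker, map_mul, map_pow]; exact hk
    have hz' : z * ι g ^ n * ι g ^ k ∈ K.map ι := by
      rw [ha, ← map_pow, ← map_mul, mul_comm]
      exact Ideal.mem_map_of_mem ι hk'
    rwa [mul_assoc, ← pow_add, Ideal.mul_unit_mem_iff_mem _ (hgu.pow _)] at hz'
  let IL := I.map ι
  haveI : Module.Flat A L := IsLocalization.flat L (Submonoid.powers g)
  haveI : Module.Flat C L := Module.Flat.trans C A L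
  haveI : Module.Flat C (L ⧸ IL) := by
    letI : Algebra (A ⧸ I) (L ⧸ IL) := Ideal.Quotient.algebraQuotientOfLEComap Ideal.le_comap_map
    haveI : IsScalarTower A (A ⧸ I) (L ⧸ IL) := IsScalarTower.of_algebraMap_eq fun _ => rfl
    haveI : IsScalarTower C (A ⧸ I) (L ⧸ IL) := IsScalarTower.of_algebraMap_eq fun _ => rfl
    haveI : IsLocalization (Algebra.algebraMapSubmonoid (A ⧸ I) (Submonoid.powers g)) (L ⧸ IL) :=
      IsLocalization.of_surjective (Submonoid.powers g) L _ Ideal.Quotient.mk_surjective _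
        Ideal.Quotient.mk_surjective (by ext; rfl) (by rw [Ideal.Quotient.algebraMap_eq]; show RingHom.ker (Ideal.Quotient.mk IL) ≤ _; rw [Ideal.mk_ker, Ideal.mk_ker])
    haveI : Module.Flat (A ⧸ I) (L ⧸ IL) :=
      IsLocalization.flat (L ⧸ IL) (Algebra.algebraMapSubmonoid (A ⧸ I) (Submonoid.powers g))
    exact Module.Flat.trans C (A ⧸ I) (L ⧸ IL)
  have hmap : (I.map q).map (algebraMap A₀ L₀) = IL.map π := by
    rw [Ideal.map_map, Ideal.map_map]
    congr 1
    ext a
    exact (hπι a).symm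
  have hlift : ∀ i, ∃ y ∈ IL, π y = l.get i := fun i => by
    refine (Ideal.mem_map_iff_of_surjective π hπs).1 ?_
    rw [← hmap, hspan]
    exact Ideal.subset_span (List.get_mem l i)
  choose y hy hyl using hlift
  have hnum : ∀ i, ∃ x ∈ I, ∃ u : Lˣ, ι x = u * y i := fun i => by
    obtain ⟨⟨x, s⟩, hxs⟩ := (IsLocalization.mem_map_algebraMap_iff (Submonoid.powers g) L).1 (hy i)
    exact ⟨x.1, x.2, (IsLocalization.map_units L s).unit, by rw [IsUnit.unit_spec, mul_comm]; exact hxs.symm⟩
  choose f hfI u hfu using hnum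
  have hFl : ∀ i, π (ι (f i)) = ((Units.map π.toMonoidHom (u i) : L₀ˣ) : L₀) * l.get i := fun i => by
    rw [hfu, map_mul, hyl]; rfl
  have hreg : CAlgX.IsH1Regular (π ∘ fun i => ι (f i)) := by
    rw [show (π ∘ fun i => ι (f i)) = fun i => ((Units.map π.toMonoidHom (u i) : L₀ˣ) : L₀) * l.get i from funext hFl]
    exact isH1Regular_units_mul (H29Slice.isH1Regular_of_isKoszulRegular hl) _
  have hgen : IL.map π ≤ Ideal.span (Set.range (π ∘ fun i => ι (f i))) := by
    rw [← hmap, hspan]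
    refine Ideal.span_le.2 fun z hz => ?_
    obtain ⟨i, rfl⟩ := List.get_of_mem hz
    rw [SetLike.mem_coe, ← Ideal.unit_mul_mem_iff_mem _ (Units.map π.toMonoidHom (u i)).isUnit, ← hFl i]
    exact Ideal.subset_span ⟨i, rfl⟩
  have hKL : K.map ι = m.map (algebraMap C L) := by
    show Ideal.map ι (Ideal.map (algebraMap C A) m) = _
    rw [Ideal.map_map]; rfl
  obtain ⟨hle, hrel⟩ := span_eq_and_ker_le (C := C) IL π hπs (fun z hz => hKL ▸ hπker z hz) (fun i => ι (f i))
    (fun i => Ideal.mem_map_of_mem ι (hfI i)) hgen hreg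
  refine ⟨l.length, f, hfI, ?_, ?_⟩
  · intro x hx
    have h1 : ι x ∈ (Ideal.span (Set.range f)).map ι := by
      rw [Ideal.map_span, ← Set.range_comp]
      exact hle (Ideal.mem_map_of_mem ι hx)
    obtain ⟨s, hs, hsx⟩ := (IsLocalization.algebraMap_mem_map_algebraMap_iff (Submonoid.powers g) L _ _).1 h1
    obtain ⟨k, rfl⟩ := hs
    exact ⟨k, hsx⟩
  · intro a ha
    have h1 : (fun i => ι (a i)) ∈ kos (fun i => ι (f i)) := hrel _ (by
      have := congrArg ι ha
      simpa [map_sum] using this)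
    obtain ⟨N, a', ha', haa⟩ : ∃ N, ∃ a' ∈ kos f, ∀ i, ι g ^ N * ι (a i) = ι (a' i) := by
      refine Submodule.span_induction (p := fun w _ => ∃ N, ∃ a' ∈ kos f, ∀ i, ι g ^ N * w i = ι (a' i))
        ?_ ?_ ?_ ?_ h1
      · rintro _ ⟨i, j, rfl⟩
        refine ⟨0, Pi.single i (f j) - Pi.single j (f i), Submodule.subset_span ⟨i, j, rfl⟩, fun k => ?_⟩
        simp only [pow_zero, one_mul, Pi.sub_apply, map_sub, Pi.single_apply, apply_ite ι, map_zero]
      · exact ⟨0, 0, zero_mem _, fun k => by simp⟩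
      · rintro x y _ _ ⟨M, b, hb, hbx⟩ ⟨M', b', hb', hby⟩
        refine ⟨M + M', g ^ M' • b + g ^ M • b', add_mem (Submodule.smul_mem _ _ hb) (Submodule.smul_mem _ _ hb'),
          fun k => ?_⟩
        simp only [Pi.add_apply, Pi.smul_apply, smul_eq_mul, map_add, map_mul, map_pow, ← hbx, ← hby]
        ring
      · rintro r x _ ⟨M, b, hb, hbx⟩
        obtain ⟨k, r', hr⟩ := IsLocalization.Away.surj g r
        refine ⟨M + k, r' • b, Submodule.smul_mem _ _ hb, fun i => ?_⟩
        show ι g ^ (M + k) * (r * x i) = ι (r' * b i)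
        rw [map_mul, ← hr, ← hbx]
        ring
    have hex : ∀ i, ∃ M, g ^ M * (g ^ N * a i) = g ^ M * a' i := fun i => by
      have h2 : ι (g ^ N * a i) = ι (a' i) := by rw [map_mul, map_pow, haa]
      obtain ⟨⟨_, M, rfl⟩, hM⟩ := (IsLocalization.eq_iff_exists (Submonoid.powers g) L).1 h2
      exact ⟨M, hM⟩
    choose M hM using hex
    refine ⟨Finset.univ.sup M + N, ?_⟩
    have : g ^ (Finset.univ.sup M + N) • a = g ^ Finset.univ.sup M • a' := by
      funext i
      obtain ⟨d, hd⟩ := Nat.le.dest (Finset.le_sup (f := M) (Finset.mem_univ i))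
      simp only [Pi.smul_apply, smul_eq_mul, pow_add, ← hd]
      linear_combination (g ^ d) * hM i
    rw [this]
    exact Submodule.smul_mem _ _ ha'

end Groth.Agent.H28Def
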