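import Groth.Agent.H24Art.Relative
import Groth.Agent.H24Art.Minimal
import Groth.Agent.H24Art.Schlessinger
import Groth.Agent.H28Def.Adjust

/-!
Smooth covers with the same relative cotangent space, and semismall versal prolongations.
-/

universe u v

open CategoryTheory

namespace Groth.Agent.H28Def

open ArtFun ArtFun.Art IsLocalRing H24Art

variable {Λ : Type u} {k : Type u} [CommRing Λ] [Field k] [Algebra Λ k]

theorem exists_min_gens (A : Art Λ k) (I : Ideal A) (hI : I ≤ maximalIdeal A) :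
    ∃ (n : ℕ) (e : Fin n → A), I ⊔ Ideal.span (Set.range e) = maximalIdeal A ∧
      ∀ c : Fin n → A, ∑ i, c i * e i ∈ I → ∀ i, c i ∈ maximalIdeal A := by
  classical
  have hex : ∃ n, ∃ e : Fin n → A, I ⊔ Ideal.span (Set.range e) = maximalIdeal A := by
    obtain ⟨n, e, he⟩ := Submodule.fg_iff_exists_fin_generating_family.mp
      (IsNoetherian.noetherian (maximalIdeal A))
    exact ⟨n, e, by rw [show Ideal.span (Set.range e) = maximalIdeal A from he, sup_eq_right.mpr hI]⟩
  let n := Nat.find hex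
  obtain ⟨e, he⟩ := Nat.find_spec hex
  refine ⟨_, e, he, fun c hc j => ?_⟩
  by_contra hj
  have hu : IsUnit (c j) := by
    by_contra h
    exact hj ((IsLocalRing.mem_maximalIdeal _).mpr h)
  obtain ⟨m, hm⟩ : ∃ m, Nat.find hex = m + 1 := ⟨Nat.find hex - 1, by have := j.2; omega⟩
  revert e c j
  rw [hm]
  intro e he c hc j _ hu
  refine Nat.find_min hex (m := m) (by omega) ⟨e ∘ j.succAbove, ?_⟩
  refine le_antisymm (sup_le hI (Ideal.span_le.mpr ?_)) (he.symm.le.trans (sup_le le_sup_left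
    (Ideal.span_le.mpr ?_)))
  · rintro _ ⟨i, rfl⟩
    exact he.le (Ideal.mem_sup_right (Ideal.subset_span ⟨_, rfl⟩))
  · rintro _ ⟨i, rfl⟩
    rcases eq_or_ne i j with rfl | hij
    · rw [Fin.sum_univ_succAbove _ i] at hc
      have h2 : ∑ l, c (i.succAbove l) * e (i.succAbove l) ∈
          I ⊔ Ideal.span (Set.range (e ∘ i.succAbove)) :=
        Ideal.sum_mem _ fun l _ =>
          Ideal.mem_sup_right (Ideal.mul_mem_left _ _ (Ideal.subset_span ⟨l, rfl⟩))
      have h3 : c i * e i ∈ I ⊔ Ideal.span (Set.range (e ∘ i.succAbove)) := by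
        have := Submodule.sub_mem _ (Ideal.mem_sup_left
          (T := Ideal.span (Set.range (e ∘ i.succAbove))) hc) h2
        rwa [add_sub_cancel_right] at this
      exact (Ideal.unit_mul_mem_iff_mem _ hu).mp h3
    · obtain ⟨l, rfl⟩ := Fin.exists_succAbove_eq hij
      exact Ideal.mem_sup_right (Ideal.subset_span ⟨l, rfl⟩)

variable [IsNoetherianRing Λ] [IsLocalRing Λ] [IsAdicComplete (maximalIdeal Λ) Λ]

theorem map_maximalIdeal_le (hk : Function.Surjective (algebraMap Λ k)) (A : Art Λ k) :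
    (maximalIdeal Λ).map (algebraMap Λ A) ≤ maximalIdeal A := by
  refine Ideal.map_le_iff_le_comap.mpr fun l hl => ?_
  rw [Ideal.mem_comap, A.mem_maximalIdeal_iff, A.res.commutes]
  exact ((baseRing hk).mem_maximalIdeal_iff l).mp hl

/-- A smooth coefficient ring onto `A` with the same relative cotangent space. -/
theorem exists_minimal_cover [Module.Finite Λ k] (hk : Function.Surjective (algebraMap Λ k))
    (A : Art Λ k) :
    ∃ (S : CRing Λ k) (q : HomSet S.carrier S.res A),
      IsSmoothFunctor (hR S.carrier S.res) ∧ Function.Surjective q.1 ∧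
      RingHom.ker q.1 ≤ maximalIdeal S.carrier ^ 2 ⊔
        (maximalIdeal Λ).map (algebraMap Λ S.carrier) := by
  have hI := sup_le (Ideal.pow_le_self two_ne_zero) (map_maximalIdeal_le hk A)
  obtain ⟨n, e, he, hmin⟩ := exists_min_gens A _ hI
  have he0 : ∀ i, A.res (e i) = 0 := fun i => (A.mem_maximalIdeal_iff _).mp
    (he.le (Ideal.mem_sup_right (Ideal.subset_span ⟨i, rfl⟩)))
  let u : HomSet (baseRing hk).carrier (baseRing hk).res A :=
    ⟨Algebra.ofId Λ A, AlgHom.ext fun l => A.res.commutes l⟩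
  obtain ⟨q, hqC, hqX⟩ := ps_exists_homSet (n := n) u e he0
  let S := pscr (baseRing hk) n
  have hC : ∀ l : Λ, psC (R := baseRing hk) (n := n) l = algebraMap Λ S.carrier l := fun l =>
    (psC (R := baseRing hk) (n := n)).commutes l
  have hqres : ∀ s, A.res (q.1 s) = S.res s := fun s => congrArg (fun t : _ →ₐ[Λ] k => t s) q.2
  refine ⟨S, q, (isSmoothFunctor_iff_ps hk S).mpr ⟨n, ⟨AlgEquiv.refl⟩⟩, ?_, fun s hs => ?_⟩
  · haveI := S.isAdicComplete
    refine surjective_of_cotangent q.1.toRingHom (fun a => ?_) ?_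
    · obtain ⟨l, hl⟩ := hk (A.res a)
      refine ⟨algebraMap Λ S.carrier l, ?_⟩
      rw [A.mem_maximalIdeal_iff, map_sub]
      change A.res a - A.res (q.1 _) = 0
      rw [q.1.commutes, A.res.commutes, hl, sub_self]
    · refine le_antisymm (sup_le (Ideal.map_le_iff_le_comap.mpr fun s hs => ?_)
        (Ideal.pow_le_self two_ne_zero)) (he.symm.le.trans ?_)
      · rw [Ideal.mem_comap, A.mem_maximalIdeal_iff]
        exact (hqres s).trans ((S.mem_maximalIdeal_iff s).mp hs)
      · refine sup_le (sup_le le_sup_right (le_sup_of_le_left ?_))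
          (le_sup_of_le_left (Ideal.span_le.mpr ?_))
        · refine Ideal.map_le_iff_le_comap.mpr fun l hl => ?_
          rw [Ideal.mem_comap, ← q.1.commutes]
          refine Ideal.mem_map_of_mem q.1.toRingHom ((S.mem_maximalIdeal_iff _).mpr ?_)
          rw [S.res.commutes]
          exact ((baseRing hk).mem_maximalIdeal_iff l).mp hl
        · rintro _ ⟨i, rfl⟩
          rw [← hqX i]
          exact Ideal.mem_map_of_mem q.1.toRingHom ((S.mem_maximalIdeal_iff _).mpr (res_psX i))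
  · obtain ⟨a, c, hac, hres⟩ := sub_linear_mem (R := baseRing hk) (n := n) s
    have ha : a ∈ maximalIdeal Λ := by
      refine ((baseRing hk).mem_maximalIdeal_iff a).mpr ?_
      rw [← hres]
      refine (hqres s).symm.trans ?_
      rw [RingHom.mem_ker.mp hs, map_zero]
    have h0 : q.1 (s - (psC a + ∑ i, psC (c i) * psX i)) ∈ maximalIdeal A ^ 2 := by
      have hle : (maximalIdeal S.carrier).map q.1 ≤ maximalIdeal A :=
        Ideal.map_le_iff_le_comap.mpr fun t ht => by
          rw [Ideal.mem_comap, A.mem_maximalIdeal_iff]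
          exact (hqres t).trans ((S.mem_maximalIdeal_iff t).mp ht)
      have h := Ideal.mem_map_of_mem q.1 hac
      rw [Ideal.map_pow] at h
      exact Ideal.pow_right_mono hle 2 h
    rw [map_sub, RingHom.mem_ker.mp hs, zero_sub, neg_mem_iff, map_add, map_sum] at h0
    have hqC' : ∀ l : Λ, q.1 (psC (R := baseRing hk) (n := n) l) = algebraMap Λ A l := fun l => by
      rw [hC]; exact q.1.commutes l
    simp only [map_mul, hqC', hqX] at h0
    have hsum : ∑ i, algebraMap Λ A (c i) * e i ∈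
        maximalIdeal A ^ 2 ⊔ (maximalIdeal Λ).map (algebraMap Λ A) := by
      have := Submodule.sub_mem _ (Ideal.mem_sup_left
        (T := (maximalIdeal Λ).map (algebraMap Λ A)) h0)
        (Ideal.mem_sup_right (Ideal.mem_map_of_mem (algebraMap Λ A) ha))
      rwa [add_sub_cancel_left] at this
    have hc : ∀ i, c i ∈ maximalIdeal Λ := fun i => by
      refine ((baseRing hk).mem_maximalIdeal_iff _).mpr ?_
      exact (A.res.commutes _).symm.trans ((A.mem_maximalIdeal_iff _).mp (hmin _ hsum i))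
    rw [← sub_add_cancel s (psC a + ∑ i, psC (c i) * psX i)]
    refine Submodule.add_mem _ (Ideal.mem_sup_left hac) (Ideal.mem_sup_right ?_)
    refine Submodule.add_mem _ ?_ (Ideal.sum_mem _ fun i _ => Ideal.mul_mem_right _ _ ?_)
    · rw [hC]; exact Ideal.mem_map_of_mem _ ha
    · rw [hC]; exact Ideal.mem_map_of_mem _ (hc i)

variable {F : Art Λ k ⥤ Type v}

theorem exists_semismall_versal [Module.Finite Λ k] (hk : Function.Surjective (algebraMap Λ k))
    (h1 : S1 F) (h2 : Heps F) (R : Art Λ k) (a : F.obj R)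
    (hvers : ∀ θ : F.obj (dual Λ k), ∃ φ : R ⟶ dual Λ k, F.map φ a = θ) :
    ∃ (R' : Art Λ k) (q : R' ⟶ R) (a' : F.obj R'), F.map q a' = a ∧ IsSemismallExt q ∧
      (∀ x' : R', x' ∈ maximalIdeal (R' : Type u) →
        q x' ∈ maximalIdeal (R : Type u) ^ 2 ⊔ (maximalIdeal Λ).map (algebraMap Λ R) →
        x' ∈ maximalIdeal (R' : Type u) ^ 2 ⊔ (maximalIdeal Λ).map (algebraMap Λ R')) ∧
      ∀ (R₁ : Art Λ k) (π₁ : R₁ ⟶ R), IsSmallExt π₁ →
        ∀ a₁ : F.obj R₁, F.map π₁ a₁ = a → ∃ f : R' ⟶ R₁, f ≫ π₁ = q ∧ F.map f a' = a₁ := by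
  obtain ⟨S, qS, hS, hqS, hker⟩ := exists_minimal_cover hk R
  obtain ⟨s', f₀, hf₀, hf₀q, hf₀η, hlift⟩ :=
    exists_step (F := F) h1 (S := S) ⟨R, qS, hqS, a⟩
  set J := maximalIdeal (s'.A : Type u) * RingHom.ker f₀.toAlgHom with hJ
  have hJm : J ≤ maximalIdeal (s'.A : Type u) := Ideal.mul_le_left
  let q := quotFactor hJm f₀ Ideal.mul_le_right
  let mk := quotMk s'.A J hJm
  have hmkq : mk ≫ q = f₀ := quotMk_quotFactor _ _ _
  let q' : HomSet S.carrier S.res (quot s'.A J hJm) := HomSet.map mk s'.q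
  have hq's : Function.Surjective q'.1 := (quotMk_surjective _ _ _).comp s'.hq
  have hqq' : ∀ s, q (q'.1 s) = qS.1 s := fun s => congrArg (fun t => t.1 s) hf₀q
  have hqa : F.map q (F.map mk s'.η) = a := by rw [← map_comp_apply', hmkq, hf₀η]
  refine ⟨quot s'.A J hJm, q, F.map mk s'.η, hqa, ⟨fun r => ?_, ?_⟩, fun x hx hqx => ?_,
    fun R₁ π₁ hπ a₁ ha₁ => ?_⟩
  · obtain ⟨b, rfl⟩ := hf₀ r
    exact ⟨mk b, congrArg (fun t : s'.A ⟶ R => t b) hmkq⟩
  · rw [eq_bot_iff, Ideal.mul_le]
    intro x hx y hy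
    obtain ⟨x, rfl⟩ := quotMk_surjective s'.A J hJm x
    obtain ⟨y, rfl⟩ := quotMk_surjective s'.A J hJm y
    rw [Ideal.mem_bot, quotMk_apply, quotMk_apply]
    refine ((map_mul (Ideal.Quotient.mk J) x y).symm).trans (Ideal.Quotient.eq_zero_iff_mem.mpr ?_)
    exact Ideal.mul_mem_mul ((comap_maximalIdeal mk).mp hx)
      (RingHom.mem_ker.mpr ((congrArg (fun t : s'.A ⟶ R => t y) hmkq).symm.trans hy))
  · obtain ⟨s, rfl⟩ := hq's x
    rw [hqq'] at hqx
    have hmap : ∀ {T : Art Λ k} (χ : HomSet S.carrier S.res T), Function.Surjective χ.1 →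
        Ideal.map χ.1 (maximalIdeal S.carrier ^ 2 ⊔
          (maximalIdeal Λ).map (algebraMap Λ S.carrier)) =
          maximalIdeal (T : Type u) ^ 2 ⊔ (maximalIdeal Λ).map (algebraMap Λ T) := by
      intro T χ hχ
      have hm : Ideal.map χ.1 (maximalIdeal S.carrier) = maximalIdeal (T : Type u) := by
        have hT : ∀ t, T.res (χ.1 t) = S.res t := fun t =>
          congrArg (fun g : _ →ₐ[Λ] k => g t) χ.2
        refine le_antisymm (Ideal.map_le_iff_le_comap.mpr fun t ht => ?_) fun b hb => ?_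
        · rw [Ideal.mem_comap, T.mem_maximalIdeal_iff, hT]
          exact (S.mem_maximalIdeal_iff t).mp ht
        · obtain ⟨t, rfl⟩ := hχ b
          refine Ideal.mem_map_of_mem _ ((S.mem_maximalIdeal_iff t).mpr ?_)
          rw [← hT]
          exact (T.mem_maximalIdeal_iff _).mp hb
      have hc : Ideal.map χ.1 ((maximalIdeal Λ).map (algebraMap Λ S.carrier)) =
          (maximalIdeal Λ).map (algebraMap Λ T) := by
        rw [← χ.1.comp_algebraMap, ← Ideal.map_map]
        rfl
      rw [Ideal.map_sup, Ideal.map_pow, hm, hc]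
    rw [← hmap qS hqS] at hqx
    obtain ⟨s₀, hs₀, e⟩ := (Ideal.mem_map_iff_of_surjective qS.1 hqS).mp hqx
    rw [← hmap q' hq's]
    refine Ideal.mem_map_of_mem q'.1 ?_
    rw [← sub_add_cancel s s₀]
    exact Submodule.add_mem _ (hker (RingHom.mem_ker.mpr (by rw [map_sub, e, sub_self]))) hs₀
  · suffices h : ∃ f : quot s'.A J hJm ⟶ R₁, f ≫ π₁ = q by
      obtain ⟨f, hf⟩ := h
      exact exists_adjust_hom h1 h2 hπ q a a₁ _ ha₁ hqa hvers f hf
    obtain ⟨χ, hχ⟩ := hS π₁ hπ.1 (qS : HomSet S.carrier S.res R)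
    have hχ : HomSet.map π₁ χ = qS := hχ
    rcases surjective_or_factor hqS hπ hχ with hs | hk'
    · obtain ⟨r, hr⟩ := hlift R₁ π₁ χ a₁ hπ hs hχ ha₁
      have hrπ : r ≫ π₁ = f₀ := homSet_map_injective s'.hq
        (((congrArg (HomSet.map π₁) hr).trans hχ).trans hf₀q.symm)
      have hrJ : J ≤ RingHom.ker r.toAlgHom := Ideal.mul_le.mpr fun x hx y hy => by
        have h1 : r x * r y ∈ (⊥ : Ideal R₁) := by
          rw [← hπ.2.2.2]
          exact Ideal.mul_mem_mul (map_mem_maximalIdeal r hx) (RingHom.mem_ker.mpr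
            ((congrArg (fun t : s'.A ⟶ R => t y) hrπ).trans hy))
        rw [RingHom.mem_ker, map_mul]
        exact Ideal.mem_bot.mp h1
      refine ⟨quotFactor hJm r hrJ, Art.hom_ext (AlgHom.ext fun x => ?_)⟩
      obtain ⟨x, rfl⟩ := quotMk_surjective s'.A J hJm x
      exact congrArg (fun t : s'.A ⟶ R => t x) hrπ
    · let σ : R →ₐ[Λ] R₁ := AlgHom.liftOfSurjective qS.1 hqS χ.1 hk'
      have hσ : ∀ x, σ (qS.1 x) = χ.1 x := AlgHom.liftOfSurjective_apply qS.1 hqS χ.1 hk'
      let σh : R ⟶ R₁ := ⟨σ, AlgHom.ext fun r => by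
        obtain ⟨x, rfl⟩ := hqS r
        change R₁.res (σ (qS.1 x)) = R.res (qS.1 x)
        rw [hσ]
        exact (congrArg (fun g : _ →ₐ[Λ] k => g x) χ.2).trans
          (congrArg (fun g : _ →ₐ[Λ] k => g x) qS.2).symm⟩
      refine ⟨q ≫ σh, Art.hom_ext (AlgHom.ext fun y => ?_)⟩
      change π₁ (σ (q y)) = q y
      obtain ⟨x, hx⟩ := hqS (q y)
      rw [← hx, hσ]
      exact congrArg (fun t => t.1 x) hχ

end Groth.Agent.H28Def
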