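import Groth.Agent.H7Flat.LocalCriterion
import Groth.Prelude.Def_CAlgX
import Mathlib

/-!
# Splitting surjections onto ideals that are locally complete intersections, and a flatness criterion
-/

set_option autoImplicit false
set_option linter.style.haveILetI false
universe u
open IsLocalRing
open scoped TensorProduct

namespace Groth.Agent.H28Def

/-- Flatness over an Artinian local ring from flatness modulo `J` and injectivity of `J ⊗ M → M`. -/
theorem flat_of_lTensor {R : Type u} [CommRing R] [IsLocalRing R] [IsArtinianRing R] (J : Ideal R) (hJ : J ≠ ⊤)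
    {M : Type u} [AddCommGroup M] [Module R M]
    (h₁ : Function.Injective (J.subtype.lTensor M)) [Module.Flat (R ⧸ J) ((R ⧸ J) ⊗[R] M)] :
    Module.Flat R M := by
  set m := maximalIdeal R
  have hJm : J ≤ m := le_maximalIdeal hJ
  let q : m →ₗ[R] R ⧸ J := (Submodule.mkQ J).comp m.subtype
  let P : Submodule (R ⧸ J) (R ⧸ J) := m.map (Ideal.Quotient.mk J)
  let q' : m →ₗ[R] P.restrictScalars R :=
    q.codRestrict _ fun r ↦ Ideal.mem_map_of_mem (Ideal.Quotient.mk J) r.2
  have hq' : Function.Surjective q' := by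
    rintro ⟨y, hy⟩
    obtain ⟨r, hr, rfl⟩ := (Ideal.mem_map_iff_of_surjective _ Ideal.Quotient.mk_surjective).mp hy
    exact ⟨⟨r, hr⟩, rfl⟩
  have hex : Function.Exact (Submodule.inclusion hJm) q' := by
    intro y
    refine ⟨fun hy ↦ ?_, ?_⟩
    · exact ⟨⟨y.1, (Submodule.Quotient.mk_eq_zero _).mp (congrArg Subtype.val hy)⟩, Subtype.ext rfl⟩
    · rintro ⟨z, rfl⟩
      exact Subtype.ext ((Submodule.Quotient.mk_eq_zero _).mpr z.2)
  have hP : Function.Injective ((P.subtype.restrictScalars R).lTensor M) :=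
    H7Flat.lTensor_injective_of_flat_quotient J P.subtype Subtype.val_injective
  have hm : Function.Injective (m.subtype.lTensor M) := by
    rw [injective_iff_map_eq_zero]
    intro x hx
    obtain ⟨z, rfl⟩ := (lTensor_exact M hex hq' x).mp (hP (by
      have e : (m.subtype.lTensor M) x = 0 := hx
      have h₂ : ((Submodule.mkQ J).lTensor M) ((m.subtype.lTensor M) x) = 0 := by rw [e, map_zero]
      rw [← LinearMap.lTensor_comp_apply] at h₂
      exact ((LinearMap.lTensor_comp_apply M (P.subtype.restrictScalars R) q' x).symm.trans h₂).trans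
        (map_zero ((P.subtype.restrictScalars R).lTensor M)).symm))
    rw [← LinearMap.lTensor_comp_apply] at hx
    rw [show z = 0 from h₁ (by rw [map_zero]; exact hx), map_zero]
  obtain ⟨n, hn⟩ := (isArtinianRing_iff_isNilpotent_maximalIdeal R).1 inferInstance
  rw [Module.Flat.iff_lTensor_injective']
  intro I
  exact H7Flat.lTensor_injective_of_isNilpotent_smul hm n (by
    rw [show m ^ n = (⊥ : Ideal R) from hn, Submodule.bot_smul]) I

/-- The trivial relations of a family. -/
def kos {R : Type u} [CommRing R] {c : ℕ} (f : Fin c → R) : Submodule R (Fin c → R) :=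
  Submodule.span R {v : Fin c → R | ∃ i j : Fin c, v = Pi.single i (f j) - Pi.single j (f i)}

lemma linearCombination_single {R : Type u} [CommRing R] {c : ℕ} {E : Type u} [AddCommGroup E] [Module R E]
    (e : Fin c → E) (i : Fin c) (r : R) : Fintype.linearCombination R e (Pi.single i r) = r • e i := by
  classical
  rw [Fintype.linearCombination_apply, Finset.sum_eq_single i]
  · rw [Pi.single_eq_same]
  · intro b _ hb; rw [Pi.single_eq_of_ne hb, zero_smul]
  · simp

/-- A surjection onto an ideal killing trivial relations splits if the ideal is locally cut out by a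
family whose relations are trivial. -/
theorem exists_section {P : Type u} [CommRing P] [IsNoetherianRing P] (I : Ideal P)
    {E : Type u} [AddCommGroup E] [Module P E] (ρ : E →ₗ[P] I) (hρ : Function.Surjective ρ)
    (hsymm : ∀ x y : E, (ρ x : P) • y = (ρ y : P) • x)
    (hloc : ∀ 𝔭 : Ideal P, 𝔭.IsMaximal → I ≤ 𝔭 → ∃ g ∉ 𝔭, ∃ (c : ℕ) (f : Fin c → P), (∀ i, f i ∈ I) ∧
      (∀ x ∈ I, ∃ N, g ^ N * x ∈ Ideal.span (Set.range f)) ∧
      ∀ a : Fin c → P, ∑ i, a i * f i = 0 → ∃ N, g ^ N • a ∈ kos f) :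
    ∃ s : I →ₗ[P] E, ρ ∘ₗ s = LinearMap.id := by
  classical
  let 𝔞 : Ideal P :=
    { carrier := {a | ∃ s : I →ₗ[P] E, ρ ∘ₗ s = a • LinearMap.id}
      add_mem' := fun {a b} ⟨s, hs⟩ ⟨t, ht⟩ => ⟨s + t, by rw [LinearMap.comp_add, hs, ht, add_smul]⟩
      zero_mem' := ⟨0, by simp⟩
      smul_mem' := fun r a ⟨s, hs⟩ => ⟨r • s, by rw [LinearMap.comp_smul, hs, smul_eq_mul, mul_smul]⟩ }
  suffices htop : 𝔞 = ⊤ by
    obtain ⟨s, hs⟩ : (1 : P) ∈ 𝔞 := by rw [htop]; trivial
    exact ⟨s, by rw [hs, one_smul]⟩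
  by_contra hne
  obtain ⟨𝔭, h𝔭, hle⟩ := Ideal.exists_le_maximal 𝔞 hne
  by_cases hI : I ≤ 𝔭
  · obtain ⟨g, hg, c, f, hfI, hgen, hrel⟩ := hloc 𝔭 h𝔭 hI
    choose e he using fun i => hρ ⟨f i, hfI i⟩
    let σ : (Fin c → P) →ₗ[P] P := Fintype.linearCombination P f
    let ev : (Fin c → P) →ₗ[P] E := Fintype.linearCombination P e
    have hσ : ∀ a, σ a = ∑ i, a i * f i := fun a => by simp [σ, Fintype.linearCombination_apply]
    have hρev : ∀ a, (ρ (ev a) : P) = σ a := fun a => by
      simp [σ, ev, Fintype.linearCombination_apply, map_sum, he]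
    have hkos : kos f ≤ LinearMap.ker ev := by
      refine Submodule.span_le.2 ?_
      rintro _ ⟨i, j, rfl⟩
      rw [SetLike.mem_coe, LinearMap.mem_ker, map_sub, linearCombination_single, linearCombination_single,
        sub_eq_zero]
      have := hsymm (e j) (e i)
      rwa [he, he] at this
    obtain ⟨S₁, hS₁⟩ := (IsNoetherian.noetherian (LinearMap.ker σ) : (LinearMap.ker σ).FG)
    choose N₁ hN₁ using fun a : S₁ => hrel a.1 (by
      rw [← hσ]; exact LinearMap.mem_ker.1 (hS₁ ▸ Submodule.subset_span a.2))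
    obtain ⟨M₁, hM₁⟩ : ∃ M₁, ∀ a ∈ LinearMap.ker σ, g ^ M₁ • ev a = 0 := by
      refine ⟨Finset.univ.sup N₁, fun a ha => ?_⟩
      rw [← hS₁] at ha
      induction ha using Submodule.span_induction with
      | mem a ha =>
        have h1 : g ^ N₁ ⟨a, ha⟩ • ev a = 0 := by rw [← map_smul]; exact hkos (hN₁ ⟨a, ha⟩)
        obtain ⟨d, hd⟩ := Nat.le.dest (Finset.le_sup (f := N₁) (Finset.mem_univ (⟨a, ha⟩ : S₁)))
        rw [← hd, pow_add, mul_comm, mul_smul, h1, smul_zero]
      | zero => simp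
      | add a b _ _ ha hb => rw [map_add, smul_add, ha, hb, add_zero]
      | smul r a _ ha => rw [map_smul, smul_comm, ha, smul_zero]
    obtain ⟨S₂, hS₂⟩ := (IsNoetherian.noetherian I : I.FG)
    choose N₂ hN₂ using fun a : S₂ => hgen a.1 (hS₂ ▸ Submodule.subset_span a.2)
    let M₂ := Finset.univ.sup N₂
    have hM₂ : ∀ x : I, g ^ M₂ * x.1 ∈ LinearMap.range σ := by
      have hle : I ≤ (LinearMap.range σ).comap (LinearMap.mulLeft P (g ^ M₂)) := by
        rw [← hS₂, Submodule.span_le]
        intro a ha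
        show g ^ M₂ * a ∈ LinearMap.range σ
        have h2 := hN₂ ⟨a, ha⟩
        obtain ⟨d, hd⟩ := Nat.le.dest (Finset.le_sup (f := N₂) (Finset.mem_univ (⟨a, ha⟩ : S₂)))
        rw [Ideal.span, ← Fintype.range_linearCombination] at h2
        have h3 := Submodule.smul_mem (LinearMap.range σ) (g ^ d) h2
        rw [smul_eq_mul, ← mul_assoc, ← pow_add, add_comm, hd] at h3
        exact h3
      exact fun x => hle x.2
    choose α hα using hM₂
    have hwd : ∀ (x : I) (a : Fin c → P), σ a = g ^ M₂ * x.1 → g ^ M₁ • ev (α x) = g ^ M₁ • ev a := by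
      intro x a ha
      rw [← sub_eq_zero, ← smul_sub, ← map_sub]
      exact hM₁ _ (by rw [LinearMap.mem_ker, map_sub, hα, ha, sub_self])
    let s : I →ₗ[P] E :=
      { toFun := fun x => g ^ M₁ • ev (α x)
        map_add' := fun x y => by
          rw [hwd (x + y) (α x + α y) (by rw [map_add, hα, hα, Submodule.coe_add, mul_add]), map_add, smul_add]
        map_smul' := fun r x => by
          rw [RingHom.id_apply, hwd (r • x) (r • α x) (by
            rw [map_smul, hα, Submodule.coe_smul, smul_eq_mul, smul_eq_mul, mul_left_comm]), map_smul, smul_comm] }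
    refine hg ?_
    have hmem : g ^ (M₁ + M₂) ∈ 𝔞 := ⟨s, LinearMap.ext fun x => Subtype.ext (by
      show ((ρ (g ^ M₁ • ev (α x))) : P) = g ^ (M₁ + M₂) • x.1
      rw [map_smul, Submodule.coe_smul, hρev, hα, smul_eq_mul, smul_eq_mul, ← mul_assoc, pow_add])⟩
    exact h𝔭.isPrime.mem_of_pow_mem _ (hle hmem)
  · obtain ⟨e, he, hep⟩ := SetLike.not_le_iff_exists.1 hI
    obtain ⟨E₀, hE₀⟩ := hρ ⟨e, he⟩
    refine hep (hle ⟨(LinearMap.toSpanSingleton P E E₀).comp I.subtype, LinearMap.ext fun x => Subtype.ext ?_⟩)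
    show ((ρ (x.1 • E₀)) : P) = e • x.1
    rw [map_smul, hE₀, Submodule.coe_smul, smul_eq_mul, smul_eq_mul, mul_comm]

end Groth.Agent.H28Def
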